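import Cfsg.Agent.CoTwoModel.Data

/-!
Kernel checks of the local relations for the Conway group Co2, part 1.
-/

set_option autoImplicit false
set_option Elab.async false

namespace Cfsg.Lib.CoTwoModel

open Cfsg.Lib.CosetCert Cfsg.Lib.CosetCert.OutTwist

theorem local_num : (decide (data.p ∣ data.ord) && decide (¬ data.p ^ 2 ∣ data.ord) &&
    decide (data.s0 < data.n) && decide (data.s1 < data.n) && decide (data.s2 < data.n) &&
    (data.posU.all fun q => q.2 == data.s0) && (data.posY.all fun q => q.2 == data.s1 || q.2 == data.s2) &&
    ((data.chainU.map fun S => S.lev.b) == data.imagesAt 4 data.posU id) &&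
    ((data.chainY.map fun S => S.lev.b) == data.imagesAt 6 data.posY id) &&
    ([4, 5, 6, 7].all fun l => data.memWords.any fun m => m.1 == l) &&
    (data.outs.all fun o => data.memWords.any fun m => m.1 == o.2) &&
    (data.exps.all fun e => e.1 * e.2 % data.p == 1) &&
    ((List.range' 1 (data.p - 1)).all fun r =>
      data.exps.any fun e => (List.range data.p).any fun m => e.1 * data.k ^ m % data.p == r) &&
    ((List.range data.p).all fun i => (List.range data.p).any fun m => (data.a * (m + i) + (data.p - 1) * m) % data.p == 0)) = true := by decide +kernel

theorem local_rel : (data.sameW (List.replicate data.p 4) [] && !data.sameW [4] [] &&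
    data.sameW [4, 6] (6 :: List.replicate data.a 4) && data.sameW [4, 7] (7 :: List.replicate data.k 4) &&
    data.sameW [5, 6] (List.replicate data.b 6 ++ [5]) && data.sameW (List.replicate (data.b * data.binv) 6) [6]) = true := by decide +kernel

end Cfsg.Lib.CoTwoModel
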