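import Cfsg.Agent.CoTwoModel.Data

/-!
Kernel checks of the local relations for the Conway group Co2, part 3.
-/

set_option autoImplicit false
set_option Elab.async false

namespace Cfsg.Lib.CoTwoModel

open Cfsg.Lib.CosetCert Cfsg.Lib.CosetCert.OutTwist

theorem local_let : ((List.range 4).all fun l => data.sameW (data.letWords.getD l []) [l] &&
    (data.letWords.getD l []).all fun b => b == 4 || b == 5) = true := by decide +kernel

end Cfsg.Lib.CoTwoModel
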