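import Cfsg.Agent.CoTwoModel.Data

/-!
Kernel checks for the Conway group Co2: tables.
-/

set_option autoImplicit false
set_option Elab.async false

namespace Cfsg.Lib.CoTwoModel

open Cfsg.Lib.PermCert Cfsg.Lib.CosetCert Cfsg.Lib.CosetCert.OutTwist

theorem tables_ok : (decide (data.low.length = 4) && decide (4 ≤ data.high.length) && data.xTabs.all (valid data.n) &&
    ((List.range 4).all fun l => data.sameW [l, l] []) &&
    ((data.chainU ++ data.chainY).all fun S => S.lev.gens.all fun g => OutTwist.Data.isLow g)) = true := by decide +kernel

end Cfsg.Lib.CoTwoModel
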