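import Cfsg.Agent.CoTwoModel.Data

/-!
Kernel checks for the Conway group Co2: the first chain.
-/

set_option autoImplicit false
set_option Elab.async false

namespace Cfsg.Lib.CoTwoModel

open Cfsg.Lib.PermCert Cfsg.Lib.CosetCert Cfsg.Lib.CosetCert.OutTwist

theorem chainU_ok : (chainOK data.low data.n 4 (data.chainU.map SLev.lev) &&
    decide (chainSize (data.chainU.map SLev.lev) = data.ord)) = true := by decide +kernel

end Cfsg.Lib.CoTwoModel
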