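import Cfsg.Agent.CoTwoModel.Data

/-!
Kernel checks for the Conway group Co2: the second chain, index lists.
-/

set_option autoImplicit false
set_option Elab.async false

namespace Cfsg.Lib.CoTwoModel

open Cfsg.Lib.PermCert Cfsg.Lib.CosetCert Cfsg.Lib.CosetCert.OutTwist

theorem chainY_idx : data.chainY.all (SLev.ok data.low) = true := by decide +kernel

end Cfsg.Lib.CoTwoModel
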