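import Cfsg.Agent.CoTwoModel.Data
import Cfsg.Agent.CoTwoModel.Local1
import Cfsg.Agent.CoTwoModel.Local2
import Cfsg.Agent.CoTwoModel.Local3
import Cfsg.Agent.CoTwoModel.Local4
import Cfsg.Agent.CoTwoModel.StaticA
import Cfsg.Agent.CoTwoModel.StaticU
import Cfsg.Agent.CoTwoModel.StaticUidx
import Cfsg.Agent.CoTwoModel.StaticY
import Cfsg.Agent.CoTwoModel.StaticYidx
import Cfsg.Agent.Leech.Mult.Elem
import Cfsg.Agent.Leech.Stab.Data

/-!
Kernel checks for the Conway group Co2 on 2300 pairs of vectors.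
-/

set_option autoImplicit false
set_option Elab.async false
set_option maxRecDepth 20000

namespace Cfsg.Lib.CoTwoModel

open Cfsg Cfsg.Lib.CosetCert Cfsg.Lib.CosetCert.OutTwist Cfsg.Lib.Leech Cfsg.Lib.Leech.Stab Cfsg.Lib.Golay

theorem staticOK_of (D : OutTwist.Data)
    (h1 : (decide (D.low.length = 4) && decide (4 ≤ D.high.length) && D.xTabs.all (Cfsg.Lib.PermCert.valid D.n) &&
      ((List.range 4).all fun l => D.sameW [l, l] []) &&
      ((D.chainU ++ D.chainY).all fun S => S.lev.gens.all fun g => OutTwist.Data.isLow g)) = true)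
    (h2 : (chainOK D.low D.n 4 (D.chainU.map SLev.lev) &&
      decide (chainSize (D.chainU.map SLev.lev) = D.ord)) = true)
    (h3 : D.chainU.all (SLev.ok D.low) = true)
    (h4 : (chainOK D.low D.n 4 (D.chainY.map SLev.lev) &&
      decide (chainSize (D.chainY.map SLev.lev) = D.ord)) = true)
    (h5 : D.chainY.all (SLev.ok D.low) = true) : D.staticOK = true := by
  simp only [OutTwist.Data.staticOK, Bool.and_eq_true] at h1 h2 h4 ⊢
  obtain ⟨⟨⟨⟨a1, a2⟩, a3⟩, a4⟩, a5⟩ := h1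
  exact ⟨⟨⟨⟨⟨⟨⟨⟨⟨⟨a1, a2⟩, a3⟩, a4⟩, h2.1⟩, h3⟩, h2.2⟩, h4.1⟩, h5⟩, h4.2⟩, a5⟩

theorem static_ok : data.staticOK = true :=
  staticOK_of data tables_ok chainU_ok chainU_idx chainY_ok chainY_idx

theorem localOK_of (D : OutTwist.Data)
    (h1 : (decide (D.p ∣ D.ord) && decide (¬ D.p ^ 2 ∣ D.ord) &&
    decide (D.s0 < D.n) && decide (D.s1 < D.n) && decide (D.s2 < D.n) &&
    (D.posU.all fun q => q.2 == D.s0) && (D.posY.all fun q => q.2 == D.s1 || q.2 == D.s2) &&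
    ((D.chainU.map fun S => S.lev.b) == D.imagesAt 4 D.posU id) &&
    ((D.chainY.map fun S => S.lev.b) == D.imagesAt 6 D.posY id) &&
    ([4, 5, 6, 7].all fun l => D.memWords.any fun m => m.1 == l) &&
    (D.outs.all fun o => D.memWords.any fun m => m.1 == o.2) &&
    (D.exps.all fun e => e.1 * e.2 % D.p == 1) &&
    ((List.range' 1 (D.p - 1)).all fun r =>
      D.exps.any fun e => (List.range D.p).any fun m => e.1 * D.k ^ m % D.p == r) &&
    ((List.range D.p).all fun i => (List.range D.p).any fun m => (D.a * (m + i) + (D.p - 1) * m) % D.p == 0)) = true)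
    (h2 : (D.sameW (List.replicate D.p 4) [] && !D.sameW [4] [] &&
    D.sameW [4, 6] (6 :: List.replicate D.a 4) && D.sameW [4, 7] (7 :: List.replicate D.k 4) &&
    D.sameW [5, 6] (List.replicate D.b 6 ++ [5]) && D.sameW (List.replicate (D.b * D.binv) 6) [6]) = true)
    (h3 : (D.memWords.all fun m => D.sameW [m.1] m.2 && Data.isLow m.2) = true)
    (h4 : ((List.range 4).all fun l => D.sameW (D.letWords.getD l []) [l] &&
    (D.letWords.getD l []).all fun b => b == 4 || b == 5) = true)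
    (h5 : (D.rels.all fun d => D.sameW (D.relWord 1 d [5]) []) = true) :
    D.localOK = true := by
  simp only [OutTwist.Data.localOK, Bool.and_eq_true] at h1 h2 ⊢
  obtain ⟨⟨⟨⟨⟨⟨⟨⟨⟨⟨⟨⟨⟨a1, a2⟩, a3⟩, a4⟩, a5⟩, a6⟩, a7⟩, a8⟩, a9⟩, a10⟩, a11⟩, a12⟩, a13⟩, a14⟩ := h1
  obtain ⟨⟨⟨⟨⟨b1, b2⟩, b3⟩, b4⟩, b5⟩, b6⟩ := h2
  exact ⟨⟨⟨⟨⟨⟨⟨⟨⟨⟨⟨⟨⟨⟨⟨⟨⟨⟨⟨⟨⟨⟨a1, a2⟩, a3⟩, a4⟩, a5⟩, a6⟩, a7⟩, a8⟩, a9⟩, b1⟩, b2⟩, b3⟩, b4⟩, b5⟩, b6⟩,
    a10⟩, a11⟩, h3⟩, h4⟩, h5⟩, a12⟩, a13⟩, a14⟩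

theorem local_ok : data.localOK = true :=
  localOK_of data local_num local_rel local_mem local_let local_rels

theorem perms_ok : ((List.range 4).all fun l => data.sameW [l] (genPerms.getD l []) &&
    (genPerms.getD l []).all fun a => Nat.ble 8 a && Nat.blt a 12) = true := by decide +kernel

theorem letter_moves : (List.range 2300).any (fun i => Cfsg.Lib.PermCert.ap (data.xTabs.getD 0 (0, 0)).1 i != i) = true := by
  decide +kernel

end Cfsg.Lib.CoTwoModel
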