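import Cfsg.Agent.CoTwoModel.InvData
import Cfsg.Agent.SpSixTwo.Cover
import Cfsg.Agent.CosetCert.Keys

/-!
Tests for the centraliser of an involution in the Conway group Co2 on 2300 pairs.
-/

set_option autoImplicit false

namespace Cfsg.Lib.CoTwoModel.Inv

open Cfsg.Lib.PermCert Cfsg.Lib.CosetCert

/-- All tables. -/
def alph : List PP := data.low ++ invTabs

/-- A further table is a word in earlier letters. -/
def defOK (j : ℕ) : Bool :=
  valid 2300 (alph.getD (4 + j) (0, 0)) && ((defWords.getD j []).all fun l => Nat.blt l (4 + j)) &&
    (List.range 2300).all fun x => ap (alph.getD (4 + j) (0, 0)).2 x == evalW alph (defWords.getD j []) x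

/-- The base points. -/
def basePts : List ℕ := [1229, 311, 1626, 307, 1987, 1199]

/-- Two words agree on the base points. -/
def sameB (w v : List ℕ) : Bool :=
  (w.all fun l => Nat.blt l 26) && (v.all fun l => Nat.blt l 26) &&
    basePts.all fun x => evalW alph w x == evalW alph v x

/-- A point is fixed by the involution. -/
def isFix (x : ℕ) : Bool := evalW alph [tI] x == x

/-- A level of the chain. -/
def lev (k : ℕ) : SLev := data.chainY.getD k ⟨⟨0, [], []⟩, []⟩

/-- The points a centralising element may move a base point to. -/
def fixKeys (k : ℕ) : List ℕ :=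
  ((lev k).lev.b :: (lev k).lev.orb.map Prod.fst).filter fun x => isFix x == isFix (lev k).lev.b

/-- A word commutes with the involution on the base points. -/
def commB (w : List ℕ) : Bool := basePts.all fun x => evalW alph (w ++ [tI]) x == evalW alph (tI :: w) x

/-- The word of an index list at a level. -/
def levWord (k : ℕ) (e : ℕ × List ℕ) : List ℕ := genWordL (lev k).lev.gens e.2

/-- The admissible first transversal entries. -/
def firsts : List (ℕ × List ℕ) := (lev 3).idx.filter fun e => isFix e.1 == isFix (lev 3).lev.b

/-- The words fixing three base points that commute with the involution. -/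
def leaves (l : List (ℕ × List ℕ)) : List (List ℕ) :=
  (l.flatMap fun e => (lev 4).idx.flatMap fun f => (lev 5).idx.map fun g =>
    levWord 5 g ++ levWord 4 f ++ levWord 3 e).filter commB

/-- The normal word of an element of the kernel. -/
def nfW (m : ℕ) : List ℕ := ((List.range 9).filter fun i => m.testBit i).map fun i => kerGens.getD i 0

/-- The fingerprint of a word. -/
def fpW (w : List ℕ) : ℕ := evalW alph w 16 * 4096 + evalW alph w 0

/-- The value of the form at a point. -/
def qb (a x : ℕ) : Bool := (forms.getD (pts28.idxOf a) 0).testBit x

/-- A generator carries the forms as its image says. -/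
def carryOK (g : ℕ) (w : List ℕ) : Bool :=
  pts28.all fun a => pts28.contains (evalW alph [g] a) &&
    (List.range 64).all fun x => qb (evalW alph [g] a) x == qb a (SpSixTwo.actC w x)

/-- A transvection is the image of a word. -/
def tvOK (c : ℕ) : Bool :=
  (tvWords.getD c []).all (fun l => topGens.contains l) &&
    (List.range 64).all fun x =>
      SpSixTwo.actC ((tvWords.getD c []).flatMap fun l => topImgs.getD (topGens.idxOf l) []) x == SpSixTwo.actC [c] x

end Cfsg.Lib.CoTwoModel.Inv
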