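import Cfsg.Agent.CoTwoModel.InvBase

/-!
The action on twenty-eight quadratic forms of the centraliser of an involution in Co2.
-/

set_option autoImplicit false
set_option Elab.async false

namespace Cfsg.Lib.CoTwoModel.Inv

theorem carry_ok : ((List.range 2).all fun i => carryOK (topGens.getD i 0) (topImgs.getD i [])) = true ∧
    (kerGens.all fun g => carryOK g []) = true ∧ topGens.length = 2 := by decide +kernel

theorem tv_ok : ((List.range 7).all tvOK) = true := by decide +kernel

theorem forms_sep : ((List.range 64).all fun x => (List.range 64).all fun y =>
    x == y || pts28.any fun a => qb a x != qb a y) = true ∧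
    (pts28.all fun a => pts28.all fun b => a == b || (List.range 64).any fun x => qb a x != qb b x) = true := by
  decide +kernel

end Cfsg.Lib.CoTwoModel.Inv
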