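import Cfsg.Agent.CoTwoModel.InvBase

/-!
The kernel on the twenty-eight forms of the centraliser of an involution in Co2.
-/

set_option autoImplicit false
set_option Elab.async false

namespace Cfsg.Lib.CoTwoModel.Inv

/-- The product recorded for an element and a generator. -/
def cloAt (m i : ℕ) : ℕ := ((cloTab.getD (m / 16) []).getD (m % 16) []).getD i 0

theorem fp_ok : (List.range 512).map (fun m => fpW (nfW m)) = fpTab := by decide +kernel

theorem fp_nodup : fpTab.Nodup := by decide +kernel

theorem clo_ok : ((List.range 512).all fun m => (List.range 9).all fun i =>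
    Nat.blt (cloAt m i) 512 && sameB (nfW m ++ [kerGens.getD i 0]) (nfW (cloAt m i))) = true := by decide +kernel

theorem sq_ok : ((List.range 512).all fun m =>
    sameB (nfW m ++ nfW m) [] || sameB (nfW m ++ nfW m) [tI]) = true := by decide +kernel

theorem noc_ok : ((List.range 512).all fun m => m == 0 || m == 256 ||
    !sameB (nfW m ++ [kerGens.getD (nocTab.getD m 0) 0]) (kerGens.getD (nocTab.getD m 0) 0 :: nfW m)) = true ∧
    kerGens.length = 9 ∧ kerGens.getD 8 0 = tI := by decide +kernel

theorem nocTab_lt : ((List.range 512).all fun m => Nat.blt (nocTab.getD m 0) 9) = true := by decide +kernel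

end Cfsg.Lib.CoTwoModel.Inv
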