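import Cfsg.Agent.CoTwoModel.InvBase

/-!
Few elements fixing three base points centralise the involution.
-/

set_option autoImplicit false
set_option Elab.async false

namespace Cfsg.Lib.CoTwoModel.Inv

open Cfsg.Lib.CosetCert

/-- The commutation at the fifth base point, split between the transversals. -/
def preB (e f g : ℕ × List ℕ) : Bool :=
  evalW alph (levWord 5 g ++ levWord 4 f) (evalW alph [tI] 1229) ==
    evalW alph (levWord 3 e ++ [tI] ++ (levWord 3 e).reverse) f.1

/-- The words fixing three base points that commute with the involution. -/
def leavesP : List (List ℕ) :=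
  (firsts.flatMap fun e => (lev 4).idx.flatMap fun f => ((lev 5).idx.filter fun g => preB e f g).map fun g =>
    levWord 5 g ++ levWord 4 f ++ levWord 3 e).filter commB

theorem reach_four : ((lev 4).idx.all fun f => (lev 5).idx.all fun g =>
    evalW alph (levWord 5 g ++ levWord 4 f) 1229 == f.1) = true := by decide +kernel

theorem leaves_ok : leavesP.length ≤ 12 := by decide +kernel

end Cfsg.Lib.CoTwoModel.Inv
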