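import Cfsg.Agent.CoTwoModel.InvBase

/-!
Kernel checks for the centraliser of an involution in Co2.
-/

set_option autoImplicit false
set_option Elab.async false

namespace Cfsg.Lib.CoTwoModel.Inv

open Cfsg.Lib.CosetCert

theorem shape_ok : alph.length = 26 ∧ defWords.length = 22 ∧ data.low.length = 4 ∧
    data.chainY.map (fun S => S.lev.b) = [307, 1987, 1199, 1626, 1229, 311] ∧
    (basePts.all fun x => Nat.blt x 2300) = true ∧ (pts28.all fun x => Nat.blt x 2300) = true := by decide +kernel

theorem invol_ok : sameB [tI, tI] [] = true ∧ sameB [tI] [] = false := by decide +kernel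

theorem keys_ok : (fixKeys 0).length ≤ 284 ∧ (fixKeys 1).length ≤ 756 ∧ (fixKeys 2).length ≤ 460 := by decide +kernel

theorem gens_comm : ((topGens ++ kerGens).all fun g => sameB [g, tI] [tI, g]) = true := by decide +kernel

end Cfsg.Lib.CoTwoModel.Inv
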