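import Cfsg.Agent.CoTwoModel.InvBase

/-!
Further tables (D) for the centraliser of an involution in Co2 are words.
-/

set_option autoImplicit false
set_option Elab.async false

namespace Cfsg.Lib.CoTwoModel.Inv

theorem defs_D : (List.range' 17 5).all defOK = true := by decide +kernel

end Cfsg.Lib.CoTwoModel.Inv
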