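import Cfsg.Agent.CoTwoModel.Model
import Cfsg.Agent.CoTwoModel.InvLocal
import Cfsg.Agent.CoTwoModel.InvForms
import Cfsg.Agent.CoTwoModel.InvTablesA
import Cfsg.Agent.CoTwoModel.InvTablesB
import Cfsg.Agent.CoTwoModel.InvTablesC
import Cfsg.Agent.CoTwoModel.InvTablesD
import Cfsg.Agent.CoTwoModel.InvKernel
import Cfsg.Agent.CoTwoModel.InvLeaves
import Cfsg.Agent.LargeExtra.Coprime

/-!
An involution of the Conway group Co2 with centraliser an extraspecial group of order 512 extended by the symplectic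
group of degree six over two elements.
-/

set_option autoImplicit false
set_option maxRecDepth 8000
set_option Elab.async false

namespace Cfsg.Lib.CoTwoModel.Inv

open Cfsg Cfsg.Lib.CosetCert Cfsg.Lib.CosetCert.OutTwist Cfsg.Lib.PermCert
open scoped commutatorElement

/-- A table as a permutation. -/
def imA (l : ℕ) : Equiv.Perm (Fin data.n) := perm data.n (alph.getD l (0, 0))

theorem alph_low {l : ℕ} (hl : l < 4) : alph.getD l (0, 0) = data.low.getD l (0, 0) := by
  rw [alph, List.getD_append _ _ _ _ (shape_ok.2.2.1.symm ▸ hl)]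

theorem def_all {j : ℕ} (hj : j < 22) : defOK j = true := by
  by_cases h1 : j < 6
  · exact List.all_eq_true.1 defs_first j (List.mem_range'_1.2 (by omega))
  by_cases h2 : j < 12
  · exact List.all_eq_true.1 defs_B j (List.mem_range'_1.2 (by omega))
  by_cases h3 : j < 17
  · exact List.all_eq_true.1 defs_C j (List.mem_range'_1.2 (by omega))
  exact List.all_eq_true.1 defs_D j (List.mem_range'_1.2 (by omega))

theorem act : ∀ l < alph.length, valid data.n (alph.getD l (0, 0)) = true ∧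
    MonoidHom.id (Equiv.Perm (Fin data.n)) (imA l) = perm data.n (alph.getD l (0, 0)) := fun l hl => by
  refine ⟨?_, rfl⟩
  by_cases h : l < 4
  · rw [alph_low h]
    exact (valid_data.tabled.act l (shape_ok.2.2.1.symm ▸ h)).1
  · obtain ⟨j, rfl⟩ := Nat.exists_eq_add_of_le (not_lt.1 h)
    have hd := def_all (j := j) (by rw [shape_ok.1] at hl; omega)
    simp only [defOK, Bool.and_eq_true] at hd
    exact hd.1.1

theorem evA {w : List ℕ} (hw : ∀ l ∈ w, l < 26) (x : Fin data.n) :
    ((wval imA w)⁻¹ x).val = evalW alph w x.val :=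
  evalW_apply imA (MonoidHom.id _) alph act w (fun l hl => shape_ok.1.symm ▸ hw l hl) x

theorem imA_low {l : ℕ} (hl : l < 4) : imA l = data.im l := by
  have h := (valid_data.tabled.act l (shape_ok.2.2.1.symm ▸ hl)).2
  rw [imA, alph_low hl, ← h]
  rfl

theorem imA_def {j : ℕ} (hj : j < 22) :
    imA (4 + j) = wval imA (defWords.getD j []) ∧ ∀ l ∈ defWords.getD j [], l < 4 + j := by
  have hd := def_all hj
  simp only [defOK, Bool.and_eq_true, List.all_eq_true, beq_iff_eq] at hd
  have hlt : ∀ l ∈ defWords.getD j [], l < 4 + j := fun l hl => Nat.le_of_ble_eq_true (hd.1.2 l hl)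
  refine ⟨inv_injective (Equiv.ext fun x => Fin.ext ?_), hlt⟩
  have e1 := evA (w := [4 + j]) (by simp; omega) x
  rw [show wval imA [4 + j] = imA (4 + j) by simp [wval]] at e1
  rw [e1, evA (fun l hl => by have := hlt l hl; omega) x, ← hd.2 x.val (List.mem_range.2 x.isLt)]
  rfl

theorem imA_mem : ∀ l < 26, imA l ∈ data.grp := fun l => by
  induction l using Nat.strong_induction_on with
  | _ l ih =>
    intro hl
    by_cases h : l < 4
    · rw [imA_low h]
      exact Subgroup.subset_closure ⟨l, h, rfl⟩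
    · obtain ⟨j, rfl⟩ := Nat.exists_eq_add_of_le (not_lt.1 h)
      obtain ⟨e, hlt⟩ := imA_def (j := j) (by omega)
      rw [e]
      refine data.grp.list_prod_mem fun q hq => ?_
      obtain ⟨a, ha, rfl⟩ := List.mem_map.1 hq
      exact ih a (hlt a ha) (by have := hlt a ha; omega)

theorem valA_mem {w : List ℕ} (hw : ∀ l ∈ w, l < 26) : wval imA w ∈ data.grp :=
  data.grp.list_prod_mem fun q hq => by
    obtain ⟨a, ha, rfl⟩ := List.mem_map.1 hq
    exact imA_mem a (hw a ha)

theorem low_val {w : List ℕ} (hw : ∀ l ∈ w, l < 4) : wval imA w = wval data.im w :=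
  congrArg List.prod (List.map_congr_left fun l hl => imA_low (hw l hl))

theorem valA_app (v w : List ℕ) : wval imA (v ++ w) = wval imA v * wval imA w := by simp [wval]

theorem valA_one (l : ℕ) : wval imA [l] = imA l := by simp [wval]

theorem valA_cons (l : ℕ) (w : List ℕ) : wval imA (l :: w) = imA l * wval imA w := by simp [wval]

/-- A base point. -/
def pK (k : ℕ) : Fin data.n := ⟨(lev k).lev.b % data.n, Nat.mod_lt _ (by show 0 < 2300; norm_num)⟩

theorem chain_eq : data.chainY = [lev 0, lev 1, lev 2, lev 3, lev 4, lev 5] := rfl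

theorem bases : (lev 0).lev.b = 307 ∧ (lev 1).lev.b = 1987 ∧ (lev 2).lev.b = 1199 ∧ (lev 3).lev.b = 1626 ∧
    (lev 4).lev.b = 1229 ∧ (lev 5).lev.b = 311 := by
  have h := shape_ok.2.2.2.1
  rw [chain_eq] at h
  simpa using h

theorem pK_val {k : ℕ} (hk : k < 6) : (pK k).val = (lev k).lev.b := by
  obtain ⟨h0, h1, h2, h3, h4, h5⟩ := bases
  refine Nat.mod_eq_of_lt ?_
  show _ < 2300
  interval_cases k <;> omega

theorem pK_base {k : ℕ} (hk : k < 6) : (pK k).val ∈ basePts := by
  obtain ⟨h0, h1, h2, h3, h4, h5⟩ := bases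
  rw [pK_val hk]
  interval_cases k <;> simp [basePts, h0, h1, h2, h3, h4, h5]

/-- The stabiliser of the first base points. -/
def gk : ℕ → Subgroup (Equiv.Perm (Fin data.n))
  | 0 => data.grp
  | k + 1 => stabIn (gk k) (pK k)

theorem lev_low {S : SLev} (hS : S ∈ data.chainY) : ∀ w ∈ S.lev.gens, ∀ l ∈ w, l < 4 :=
  valid_data.gens_low (List.mem_append_right _ hS)

theorem chain_facts :
    ((∀ x ∈ gk 0, (x⁻¹ (pK 0)).val ∈ (lev 0).lev.b :: (lev 0).lev.orb.map Prod.fst) ∧
      (∀ x ∈ gk 1, (x⁻¹ (pK 1)).val ∈ (lev 1).lev.b :: (lev 1).lev.orb.map Prod.fst) ∧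
      ∀ x ∈ gk 2, (x⁻¹ (pK 2)).val ∈ (lev 2).lev.b :: (lev 2).lev.orb.map Prod.fst) ∧
    (chainOK data.low data.n data.low.length [(lev 3).lev, (lev 4).lev, (lev 5).lev] = true ∧
      (∀ K ∈ [(lev 3).lev, (lev 4).lev, (lev 5).lev], ∀ w ∈ K.gens, wval data.im w ∈ gk 3) ∧
      Nat.card (gk 3) ≤ chainSize [(lev 3).lev, (lev 4).lev, (lev 5).lev]) ∧
    Nat.card (gk 6) ≤ 1 := by
  have h := chainY_ok
  rw [Bool.and_eq_true, decide_eq_true_eq, chain_eq] at h
  have hc : chainOK data.low data.n data.low.length ([lev 0, lev 1, lev 2, lev 3, lev 4, lev 5].map SLev.lev) = true := by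
    rw [shape_ok.2.2.1]
    exact h.1
  have hm : ∀ K ∈ [lev 0, lev 1, lev 2, lev 3, lev 4, lev 5].map SLev.lev, ∀ w ∈ K.gens, wval data.im w ∈ gk 0 := by
    intro K hK w hw
    obtain ⟨S, hS, rfl⟩ := List.mem_map.1 hK
    exact Data.low_mem (lev_low (chain_eq ▸ hS) w hw)
  simp only [List.map_cons, List.map_nil] at hc hm h
  have hcard : Nat.card (gk 0) ≤ chainSize [(lev 0).lev, (lev 1).lev, (lev 2).lev, (lev 3).lev, (lev 4).lev,
      (lev 5).lev] := le_of_eq (grp_eq.2.trans h.2.symm)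
  have T := valid_data.tabled.act
  obtain ⟨a0, c1, m1, n1⟩ := stab_keys data.im data.low T _ _ (gk 0) hc hm hcard (pK 0) (pK_val (by norm_num))
  obtain ⟨a1, c2, m2, n2⟩ := stab_keys data.im data.low T _ _ (gk 1) c1 m1 n1 (pK 1) (pK_val (by norm_num))
  obtain ⟨a2, c3, m3, n3⟩ := stab_keys data.im data.low T _ _ (gk 2) c2 m2 n2 (pK 2) (pK_val (by norm_num))
  obtain ⟨-, c4, m4, n4⟩ := stab_keys data.im data.low T _ _ (gk 3) c3 m3 n3 (pK 3) (pK_val (by norm_num))
  obtain ⟨-, c5, m5, n5⟩ := stab_keys data.im data.low T _ _ (gk 4) c4 m4 n4 (pK 4) (pK_val (by norm_num))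
  obtain ⟨-, c6, m6, n6⟩ := stab_keys data.im data.low T _ _ (gk 5) c5 m5 n5 (pK 5) (pK_val (by norm_num))
  exact ⟨⟨a0, a1, a2⟩, ⟨c3, m3, n3⟩, n6⟩

theorem faithful {x y : Equiv.Perm (Fin data.n)} (hx : x ∈ data.grp) (hy : y ∈ data.grp)
    (h : ∀ k < 6, x⁻¹ (pK k) = y⁻¹ (pK k)) : x = y := by
  have hfix : ∀ k ≤ 6, y * x⁻¹ ∈ gk k := by
    intro k
    induction k with
    | zero => exact fun _ => mul_mem hy (inv_mem hx)
    | succ k ih =>
      intro hk
      refine ⟨ih (by omega), ?_⟩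
      show y (x⁻¹ (pK k)) = pK k
      rw [h k (by omega), Equiv.Perm.inv_def, Equiv.apply_symm_apply]
  haveI : Subsingleton (gk 6) := (Nat.card_eq_one_iff_unique.1 (le_antisymm chain_facts.2.2 Nat.card_pos)).1
  have := congrArg Subtype.val (Subsingleton.elim (⟨_, hfix 6 le_rfl⟩ : gk 6) 1)
  exact (mul_inv_eq_one.1 this).symm

theorem sameB_letters {w v : List ℕ} (h : sameB w v = true) : (∀ l ∈ w, l < 26) ∧ ∀ l ∈ v, l < 26 := by
  simp only [sameB, Bool.and_eq_true, List.all_eq_true] at h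
  exact ⟨fun l hl => Nat.le_of_ble_eq_true (h.1.1 l hl), fun l hl => Nat.le_of_ble_eq_true (h.1.2 l hl)⟩

theorem sameB_sound {w v : List ℕ} (h : sameB w v = true) : wval imA w = wval imA v := by
  obtain ⟨hw, hv⟩ := sameB_letters h
  simp only [sameB, Bool.and_eq_true, List.all_eq_true, beq_iff_eq] at h
  refine faithful (valA_mem hw) (valA_mem hv) fun k hk => Fin.ext ?_
  rw [evA hw, evA hv]
  exact h.2 _ (pK_base hk)

theorem sameB_of_eq {w v : List ℕ} (hw : ∀ l ∈ w, l < 26) (hv : ∀ l ∈ v, l < 26)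
    (e : wval imA w = wval imA v) : sameB w v = true := by
  simp only [sameB, Bool.and_eq_true, List.all_eq_true, beq_iff_eq]
  refine ⟨⟨fun l hl => Nat.ble_eq_true_of_le (hw l hl), fun l hl => Nat.ble_eq_true_of_le (hv l hl)⟩, fun x hx => ?_⟩
  have hlt : x < data.n := Nat.le_of_ble_eq_true (List.all_eq_true.1 shape_ok.2.2.2.2.1 x hx)
  rw [← evA hw ⟨x, hlt⟩, e, evA hv ⟨x, hlt⟩]

/-- The involution. -/
def tP : Equiv.Perm (Fin data.n) := imA tI

theorem tI_lt : tI < 26 := by decide

theorem tP_sq : tP * tP = 1 := by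
  have := sameB_sound invol_ok.1
  rwa [valA_cons, valA_one, show wval imA [] = 1 by simp [wval]] at this

theorem tP_ne : tP ≠ 1 := fun e => by
  have := sameB_of_eq (w := [tI]) (v := []) (by simp [tI_lt]) (by simp) (by rw [valA_one]; exact e.trans (by simp [wval]))
  rw [invol_ok.2] at this
  exact Bool.noConfusion this

theorem isFix_iff (x : Fin data.n) : isFix x.val = true ↔ tP⁻¹ x = x := by
  rw [isFix, beq_iff_eq, ← evA (w := [tI]) (by simp [tI_lt]) x, valA_one, Fin.val_inj]
  exact Iff.rfl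

/-- The centraliser inside the permutation group. -/
def centP : Subgroup (Equiv.Perm (Fin data.n)) := data.grp ⊓ Subgroup.centralizer {tP}

theorem mem_centP {z : Equiv.Perm (Fin data.n)} : z ∈ centP ↔ z ∈ data.grp ∧ z * tP = tP * z := by
  rw [centP, Subgroup.mem_inf, Subgroup.mem_centralizer_singleton_iff]

theorem fix_comm {z : Equiv.Perm (Fin data.n)} (hz : z ∈ centP) (x : Fin data.n) :
    isFix (z⁻¹ x).val = isFix x.val := by
  have e : tP⁻¹ * z⁻¹ = z⁻¹ * tP⁻¹ := by rw [← mul_inv_rev, (mem_centP.1 hz).2, mul_inv_rev]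
  rw [Bool.eq_iff_iff, isFix_iff, isFix_iff, ← Equiv.Perm.mul_apply, e, Equiv.Perm.mul_apply, z⁻¹.injective.eq_iff]

theorem card_le_keys {H : Subgroup (Equiv.Perm (Fin data.n))} (hH : H ≤ centP) {k : ℕ} (hk : k < 6)
    (hkeys : ∀ z ∈ H, (z⁻¹ (pK k)).val ∈ (lev k).lev.b :: (lev k).lev.orb.map Prod.fst) :
    Nat.card H ≤ (fixKeys k).length * Nat.card (stabIn H (pK k)) := by
  rw [← card_orbit_mul H (pK k)]
  refine Nat.mul_le_mul_right _ ?_
  calc (MulAction.orbit H (pK k)).ncard ≤ ((fixKeys k).toFinset : Set ℕ).ncard :=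
        Set.ncard_le_ncard_of_injOn (fun q : Fin data.n => q.val) (by
          rintro _ ⟨g, rfl⟩
          have h1 := hkeys _ (inv_mem g.2)
          rw [inv_inv] at h1
          rw [Finset.mem_coe, List.mem_toFinset, fixKeys, List.mem_filter]
          refine ⟨h1, ?_⟩
          have h2 := fix_comm (hH (inv_mem g.2)) (pK k)
          rw [inv_inv, pK_val hk] at h2
          exact beq_iff_eq.2 h2) (fun a _ b _ e => Fin.ext e) (Finset.finite_toSet _)
    _ ≤ (fixKeys k).length := by rw [Set.ncard_coe_finset]; exact List.toFinset_card_le _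

theorem sift_three (A B C : SLev) (a b c : ℕ) (w : List ℕ)
    (h : sift data.low [A, B, C] [a, b, c] = some w) : ∃ e ∈ A.idx, ∃ f ∈ B.idx, ∃ g ∈ C.idx,
      e.1 = a ∧ w = genWordL C.lev.gens g.2 ++ genWordL B.lev.gens f.2 ++ genWordL A.lev.gens e.2 := by
  simp only [CosetCert.sift, List.map_cons, List.map_nil] at h
  cases he : A.idx.find? fun e => e.1 == a with
  | none => simp [he] at h
  | some e =>
    simp only [he] at h
    cases hf : B.idx.find? fun f => f.1 == evalW data.low (genWordL A.lev.gens e.2).reverse b with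
    | none => simp [hf] at h
    | some f =>
      simp only [hf] at h
      cases hg : C.idx.find? fun g => g.1 ==
          evalW data.low (genWordL B.lev.gens f.2).reverse (evalW data.low (genWordL A.lev.gens e.2).reverse c) with
      | none => simp [hg] at h
      | some g =>
        simp only [hg, List.nil_append, Option.some.injEq] at h
        exact ⟨e, List.mem_of_find?_eq_some he, f, List.mem_of_find?_eq_some hf, g, List.mem_of_find?_eq_some hg,
          by simpa using List.find?_some he, h.symm⟩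

theorem valA_reverse : ∀ u : List ℕ, (∀ l ∈ u, l < 4) → wval imA u.reverse = (wval imA u)⁻¹
  | [], _ => by simp [wval]
  | l :: u, h => by
    have hl : l < 4 := h l List.mem_cons_self
    have hs : data.im l * data.im l = 1 := valid_data.tabled.sq l (shape_ok.2.2.1.symm ▸ hl)
    rw [List.reverse_cons, valA_app, valA_one, valA_cons, mul_inv_rev,
      valA_reverse u fun i hi => h i (List.mem_cons_of_mem l hi), imA_low hl]
    exact congrArg _ (eq_inv_of_mul_eq_one_left hs)

theorem pre_ok {e f g : ℕ × List ℕ} (hf : f ∈ (lev 4).idx) (hg : g ∈ (lev 5).idx)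
    (ha : ∀ l ∈ levWord 5 g ++ levWord 4 f, l < 4) (hb : ∀ l ∈ levWord 3 e, l < 4)
    {z : Equiv.Perm (Fin data.n)} (hz : wval imA ((levWord 5 g ++ levWord 4 f) ++ levWord 3 e) = z)
    (hc : z * tP = tP * z) : preB e f g = true := by
  have h4 := List.all_eq_true.1 (List.all_eq_true.1 reach_four f hf) g hg
  rw [beq_iff_eq] at h4
  let b : Fin data.n := ⟨1229, by show 1229 < 2300; norm_num⟩
  have ha' : ∀ l ∈ levWord 5 g ++ levWord 4 f, l < 26 := fun l hl => (ha l hl).trans (by norm_num)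
  have hb' : ∀ l ∈ levWord 3 e ++ [tI] ++ (levWord 3 e).reverse, l < 26 := fun l hl => by
    simp only [List.mem_append, List.mem_singleton, List.mem_reverse] at hl
    rcases hl with (hl | hl) | hl
    · exact (hb l hl).trans (by norm_num)
    · exact hl ▸ tI_lt
    · exact (hb l hl).trans (by norm_num)
  rw [preB, beq_iff_eq, ← h4, show (1229 : ℕ) = b.val from rfl, ← evA (w := [tI]) (by simp [tI_lt]) b, ← evA ha',
    ← evA ha', ← evA hb', Fin.val_inj, ← Equiv.Perm.mul_apply, ← Equiv.Perm.mul_apply]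
  refine congrArg (fun q : Equiv.Perm (Fin data.n) => q b) ?_
  rw [valA_app (levWord 3 e ++ [tI]), valA_app (levWord 3 e), valA_one, valA_reverse _ hb]
  set A := wval imA (levWord 5 g ++ levWord 4 f)
  set B := wval imA (levWord 3 e)
  have hAB : A * B = z := (valA_app _ _).symm.trans hz
  have h : A * B * tP = tP * (A * B) := by rw [hAB]; exact hc
  rw [← mul_inv_rev, ← mul_inv_rev, inv_inj]
  show tP * A = A * (B * tP * B⁻¹)
  rw [← mul_assoc, ← mul_assoc, h, ← mul_assoc, mul_inv_cancel_right]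

theorem leaf {z : Equiv.Perm (Fin data.n)} (hz : z ∈ centP) (h3 : z ∈ gk 3) :
    ∃ w ∈ leavesP, wval imA w = z := by
  obtain ⟨hc, hm, hn⟩ := chain_facts.2.1
  have hidx := chainY_idx
  rw [chain_eq] at hidx
  simp only [List.all_cons, List.all_nil, Bool.and_true, Bool.and_eq_true] at hidx
  obtain ⟨w, hw, e⟩ := sift_complete valid_data.tabled [lev 3, lev 4, lev 5] (gk 3) inferInstance hc
    (by simp [hidx.2.2.2.1, hidx.2.2.2.2.1, hidx.2.2.2.2.2])
    (fun S hS w hw => hm S.lev (List.mem_map_of_mem (f := SLev.lev) hS) w hw) hn z h3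
    [(z⁻¹ (pK 3)).val, (z⁻¹ (pK 4)).val, (z⁻¹ (pK 5)).val] (by
      refine List.Forall₂.cons ?_ (List.Forall₂.cons ?_ (List.Forall₂.cons ?_ List.Forall₂.nil)) <;>
        intro p hp <;> rw [← pK_val (by norm_num)] at hp <;> rw [Fin.ext hp] <;> rfl)
  obtain ⟨x, hx, y, hy, g, hg, hxa, hwe⟩ := sift_three _ _ _ _ _ _ _ hw
  have hlow : ∀ l ∈ w, l < 4 := by
    refine Data.sift_low data.low _ _ w hw fun S hS => lev_low ?_
    rw [chain_eq]
    simp only [List.mem_cons, List.not_mem_nil, or_false] at hS ⊢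
    rcases hS with h | h | h <;> simp [h]
  have hv : wval imA w = z := (low_val hlow).trans e
  refine ⟨w, List.mem_filter.2 ⟨List.mem_flatMap.2 ⟨x, List.mem_filter.2 ⟨hx, ?_⟩, List.mem_flatMap.2
    ⟨y, hy, List.mem_map.2 ⟨g, List.mem_filter.2 ⟨hg, ?_⟩, hwe.symm⟩⟩⟩, ?_⟩, hv⟩
  · rw [hxa, fix_comm hz, pK_val (by norm_num), beq_self_eq_true]
  · exact pre_ok hy hg (fun l hl => hlow l (by rw [hwe]; exact List.mem_append_left _ hl))
      (fun l hl => hlow l (by rw [hwe]; exact List.mem_append_right _ hl))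
      ((congrArg (wval imA) hwe).symm.trans hv) (mem_centP.1 hz).2
  · have hw26 : ∀ l ∈ w, l < 26 := fun l hl => (hlow l hl).trans (by norm_num)
    have he : sameB (w ++ [tI]) (tI :: w) = true := sameB_of_eq
      (by intro l hl; rcases List.mem_append.1 hl with h | h
          · exact hw26 l h
          · exact List.mem_singleton.1 h ▸ tI_lt)
      (by intro l hl; rcases List.mem_cons.1 hl with h | h
          · exact h ▸ tI_lt
          · exact hw26 l h)
      (by rw [valA_app, valA_one, valA_cons, hv]; exact (mem_centP.1 hz).2)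
    rw [sameB, Bool.and_eq_true] at he
    exact he.2

theorem card_centP_le : Nat.card centP ≤ 1185166080 := by
  obtain ⟨k0, k1, k2⟩ := keys_ok
  obtain ⟨⟨a0, a1, a2⟩, -, -⟩ := chain_facts
  set H1 := stabIn centP (pK 0) with hH1
  set H2 := stabIn H1 (pK 1) with hH2
  set H3 := stabIn H2 (pK 2) with hH3
  have g1 : H1 ≤ gk 1 := inf_le_inf_right _ inf_le_left
  have g2 : H2 ≤ gk 2 := inf_le_inf_right _ g1
  have g3 : H3 ≤ gk 3 := inf_le_inf_right _ g2
  have b1 := card_le_keys (k := 0) le_rfl (by norm_num) fun z hz => a0 z (mem_centP.1 hz).1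
  have b2 := card_le_keys (H := H1) (k := 1) inf_le_left (by norm_num) fun z hz => a1 z (g1 hz)
  have b3 := card_le_keys (H := H2) (k := 2) (inf_le_left.trans inf_le_left) (by norm_num) fun z hz => a2 z (g2 hz)
  rw [← hH1] at b1
  rw [← hH2] at b2
  rw [← hH3] at b3
  have b4 : Nat.card H3 ≤ 12 := by
    have hw : ∀ z : H3, ∃ w : (leavesP).toFinset, wval imA w.1 = z.1 := fun z => by
      obtain ⟨w, hw, e⟩ := leaf z.2.1.1.1 (g3 z.2)
      exact ⟨⟨w, List.mem_toFinset.2 hw⟩, e⟩
    choose f hf using hw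
    refine (Nat.card_le_card_of_injective f fun a b e => Subtype.ext (by rw [← hf a, e, hf b])).trans ?_
    rw [Nat.card_eq_fintype_card, Fintype.card_coe]
    exact (List.toFinset_card_le _).trans leaves_ok
  calc Nat.card centP ≤ 284 * Nat.card H1 := b1.trans (Nat.mul_le_mul_right _ k0)
    _ ≤ 284 * (756 * Nat.card H2) := Nat.mul_le_mul_left _ (b2.trans (Nat.mul_le_mul_right _ k1))
    _ ≤ 284 * (756 * (460 * Nat.card H3)) :=
        Nat.mul_le_mul_left _ (Nat.mul_le_mul_left _ (b3.trans (Nat.mul_le_mul_right _ k2)))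
    _ ≤ 284 * (756 * (460 * 12)) :=
        Nat.mul_le_mul_left _ (Nat.mul_le_mul_left _ (Nat.mul_le_mul_left _ b4))
    _ = 1185166080 := by norm_num

/-- The subgroup on the listed generators. -/
def centGrp : Subgroup (Equiv.Perm (Fin data.n)) := Subgroup.closure (imA '' {g | g ∈ topGens ++ kerGens})

theorem gen_centP {g : ℕ} (hg : g ∈ topGens ++ kerGens) : g < 26 ∧ imA g ∈ centP := by
  have h := List.all_eq_true.1 gens_comm g hg
  have hlt : g < 26 := (sameB_letters h).1 g List.mem_cons_self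
  refine ⟨hlt, mem_centP.2 ⟨imA_mem g hlt, ?_⟩⟩
  have := sameB_sound h
  rwa [valA_cons, valA_one, valA_cons, valA_one] at this

theorem centGrp_le : centGrp ≤ centP := (Subgroup.closure_le _).2 (by
  rintro _ ⟨g, hg, rfl⟩
  exact (gen_centP hg).2)

/-- The image on the quadratic forms. -/
def Good (z : Equiv.Perm (Fin data.n)) (M : SpSixTwo.Sp) : Prop :=
  ∀ a : Fin data.n, a.val ∈ pts28 →
    (z⁻¹ a).val ∈ pts28 ∧ ∀ x < 64, qb (z⁻¹ a).val x = qb a.val (SpSixTwo.actV M x)

theorem good_one : Good 1 1 := fun a ha => ⟨by simpa using ha, fun x hx => by simp [SpSixTwo.actV_one hx]⟩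

theorem good_mul {z z' : Equiv.Perm (Fin data.n)} {M M' : SpSixTwo.Sp} (h : Good z M) (h' : Good z' M') :
    Good (z * z') (M * M') := fun a ha => by
  obtain ⟨h1, h2⟩ := h a ha
  obtain ⟨h3, h4⟩ := h' _ h1
  rw [mul_inv_rev, Equiv.Perm.mul_apply]
  exact ⟨h3, fun x hx => by rw [h4 x hx, h2 _ (SpSixTwo.actV_lt _ _), ← SpSixTwo.actV_mul]⟩

theorem sp_sep {M M' : SpSixTwo.Sp}
    (h : ∀ a : Fin data.n, a.val ∈ pts28 → ∀ x < 64, qb a.val (SpSixTwo.actV M x) = qb a.val (SpSixTwo.actV M' x)) :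
    M = M' := by
  refine SpSixTwo.sp_ext fun i hi => ?_
  have hx : 2 ^ i < 64 := lt_of_lt_of_le (Nat.pow_lt_pow_right (by norm_num) hi) (by norm_num)
  have hs := List.all_eq_true.1 (List.all_eq_true.1 forms_sep.1 _
    (List.mem_range.2 (SpSixTwo.actV_lt M (2 ^ i)))) _ (List.mem_range.2 (SpSixTwo.actV_lt M' (2 ^ i)))
  rw [Bool.or_eq_true, beq_iff_eq] at hs
  rcases hs with hs | hs
  · exact hs
  · obtain ⟨a, ha, hd⟩ := List.any_eq_true.1 hs
    have hlt : a < data.n := Nat.le_of_ble_eq_true (List.all_eq_true.1 shape_ok.2.2.2.2.2 a ha)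
    rw [h ⟨a, hlt⟩ ha _ hx] at hd
    simp at hd

theorem good_unique {z : Equiv.Perm (Fin data.n)} {M M' : SpSixTwo.Sp} (h : Good z M) (h' : Good z M') : M = M' :=
  sp_sep fun a ha x hx => ((h a ha).2 x hx).symm.trans ((h' a ha).2 x hx)

theorem good_carry {g : ℕ} (hg : g < 26) {w : List ℕ} (h : carryOK g w = true) :
    Good (imA g) (SpSixTwo.proj (SpSixTwo.el w)) := fun a ha => by
  have := List.all_eq_true.1 h a.val ha
  simp only [Bool.and_eq_true, List.all_eq_true, List.mem_range, beq_iff_eq, List.contains_iff_mem] at this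
  have e := evA (w := [g]) (by simpa using hg) a
  rw [valA_one] at e
  rw [e]
  exact ⟨this.1, fun x hx => by rw [SpSixTwo.el_vec w hx, this.2 x hx]⟩

theorem good_gen {g : ℕ} (hg : g ∈ topGens ++ kerGens) : ∃ M, Good (imA g) M := by
  have hlt := (gen_centP hg).1
  rcases List.mem_append.1 hg with h | h
  · obtain ⟨i, hi, rfl⟩ := List.getElem_of_mem h
    rw [← List.getD_eq_getElem topGens 0 hi] at hlt ⊢
    exact ⟨_, good_carry hlt (List.all_eq_true.1 carry_ok.1 i (List.mem_range.2 (carry_ok.2.2 ▸ hi)))⟩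
  · exact ⟨_, good_carry hlt (List.all_eq_true.1 carry_ok.2.1 g h)⟩

theorem exists_good {z : Equiv.Perm (Fin data.n)} (hz : z ∈ centGrp) : ∃ M, Good z M := by
  have hz' : z ∈ Submonoid.closure (imA '' {g | g ∈ topGens ++ kerGens}) := by
    rwa [← Subgroup.closure_toSubmonoid_of_finite]
  induction hz' using Submonoid.closure_induction with
  | mem x hx => obtain ⟨g, hg, rfl⟩ := hx; exact good_gen hg
  | one => exact ⟨1, good_one⟩
  | mul x y hx hy ih ih' =>
    have mem : ∀ {u}, u ∈ Submonoid.closure (imA '' {g | g ∈ topGens ++ kerGens}) → u ∈ centGrp := fun hu => by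
      rwa [centGrp, ← Subgroup.mem_toSubmonoid, Subgroup.closure_toSubmonoid_of_finite]
    obtain ⟨M, h⟩ := ih (mem hx)
    obtain ⟨M', h'⟩ := ih' (mem hy)
    exact ⟨M * M', good_mul h h'⟩

/-- The action on the forms. -/
noncomputable def rho : centGrp →* SpSixTwo.Sp :=
  MonoidHom.mk' (fun z => (exists_good z.2).choose) fun a b =>
    good_unique (exists_good (a * b).2).choose_spec
      (good_mul (exists_good a.2).choose_spec (exists_good b.2).choose_spec)

theorem rho_eq {z : centGrp} {M : SpSixTwo.Sp} (h : Good z.1 M) : rho z = M :=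
  good_unique (exists_good z.2).choose_spec h

theorem rho_surjective : Function.Surjective rho := by
  intro M
  obtain ⟨c, rfl⟩ := SpSixTwo.proj_surjective M
  obtain ⟨c, hc⟩ := c
  suffices h : ∀ x : SpSixTwo.cover, SpSixTwo.proj x ∈ rho.range from h ⟨c, hc⟩
  intro x
  obtain ⟨x, hx⟩ := x
  induction hx using Subgroup.closure_induction with
  | one => exact one_mem rho.range
  | mul a b ha hb iha ihb => exact mul_mem iha ihb
  | inv a ha iha => exact inv_mem iha
  | mem y hy =>
    obtain ⟨j, rfl⟩ := hy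
    have hj := List.all_eq_true.1 tv_ok j.val (List.mem_range.2 j.isLt)
    simp only [tvOK, Bool.and_eq_true, List.all_eq_true, List.mem_range, beq_iff_eq, List.contains_iff_mem] at hj
    have key : ∀ l : List ℕ, (∀ g ∈ l, g ∈ topGens) →
        SpSixTwo.proj (SpSixTwo.el (l.flatMap fun g => topImgs.getD (topGens.idxOf g) [])) ∈ rho.range := by
      intro l hl
      induction l with
      | nil => rw [List.flatMap_nil, SpSixTwo.el_nil, map_one]; exact one_mem _
      | cons g l ih =>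
        rw [List.flatMap_cons, SpSixTwo.el_append, map_mul]
        refine mul_mem ?_ (ih fun q hq => hl q (List.mem_cons_of_mem g hq))
        have hg := hl g List.mem_cons_self
        have hi := List.idxOf_lt_length_iff.2 hg
        have hgood := List.all_eq_true.1 carry_ok.1 _ (List.mem_range.2 (carry_ok.2.2 ▸ hi))
        rw [List.getD_eq_getElem _ _ hi, List.getElem_idxOf] at hgood
        exact ⟨⟨imA g, Subgroup.subset_closure ⟨g, List.mem_append_left _ hg, rfl⟩⟩,
          rho_eq (good_carry (gen_centP (List.mem_append_left _ hg)).1 hgood)⟩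
    have e : SpSixTwo.proj (SpSixTwo.el ((tvWords.getD j.val []).flatMap fun g => topImgs.getD (topGens.idxOf g) [])) =
        SpSixTwo.genT j := by
      refine SpSixTwo.sp_ext fun i hi => ?_
      have hx : 2 ^ i < 64 := lt_of_lt_of_le (Nat.pow_lt_pow_right (by norm_num) hi) (by norm_num)
      rw [SpSixTwo.el_vec _ hx, hj.2 _ hx, SpSixTwo.actV_genT _ hx]
      show ap (SpSixTwo.vecTab.getD (j.val % 7) 0) _ = ap (SpSixTwo.vecTab.getD j.val 0) _
      rw [Nat.mod_eq_of_lt j.isLt]
      rfl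
    show SpSixTwo.genT j ∈ rho.range
    rw [← e]
    exact key _ hj.1

/-- The subgroup on the kernel generators. -/
def kerGrp : Subgroup (Equiv.Perm (Fin data.n)) := Subgroup.closure (imA '' {g | g ∈ kerGens})

/-- An element of the kernel by its number. -/
def nfP (m : ℕ) : Equiv.Perm (Fin data.n) := wval imA (nfW m)

theorem ker_lt {g : ℕ} (hg : g ∈ kerGens) : g < 26 := (gen_centP (List.mem_append_right _ hg)).1

theorem nfW_mem {m l : ℕ} (h : l ∈ nfW m) : l ∈ kerGens := by
  obtain ⟨i, hi, rfl⟩ := List.mem_map.1 h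
  have h9 : i < kerGens.length := by
    rw [noc_ok.2.1]
    exact List.mem_range.1 (List.mem_of_mem_filter hi)
  rw [List.getD_eq_getElem _ _ h9]
  exact List.getElem_mem h9

theorem nfP_mem (m : ℕ) : nfP m ∈ kerGrp := kerGrp.list_prod_mem fun q hq => by
  obtain ⟨l, hl, rfl⟩ := List.mem_map.1 hq
  exact Subgroup.subset_closure ⟨l, nfW_mem hl, rfl⟩

theorem kerGrp_cases {z : Equiv.Perm (Fin data.n)} (hz : z ∈ kerGrp) : ∃ m < 512, nfP m = z := by
  have hz' : z ∈ Submonoid.closure (imA '' {g | g ∈ kerGens}) := by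
    rwa [← Subgroup.closure_toSubmonoid_of_finite]
  clear hz
  induction hz' using Submonoid.closure_induction_right with
  | one => exact ⟨0, by norm_num, by simp [nfP, nfW, wval]⟩
  | mul_right x hx y hy ih =>
    obtain ⟨g, hg, rfl⟩ := hy
    obtain ⟨m, hm, rfl⟩ := ih
    obtain ⟨i, hi, rfl⟩ := List.getElem_of_mem hg
    have h := List.all_eq_true.1 (List.all_eq_true.1 clo_ok m (List.mem_range.2 hm)) i
      (List.mem_range.2 (noc_ok.2.1 ▸ hi))
    rw [Bool.and_eq_true] at h
    refine ⟨cloAt m i, Nat.le_of_ble_eq_true h.1, ?_⟩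
    have e := sameB_sound h.2
    rw [valA_app, valA_one, List.getD_eq_getElem _ _ hi] at e
    exact e.symm

theorem nfW_lt {m l : ℕ} (h : l ∈ nfW m) : l < 26 := ker_lt (nfW_mem h)

theorem fp_eq (m : ℕ) : fpW (nfW m) = ((nfP m)⁻¹ (⟨16, by show 16 < 2300; norm_num⟩ : Fin data.n)).val * 4096 +
    ((nfP m)⁻¹ (⟨0, by show 0 < 2300; norm_num⟩ : Fin data.n)).val := by
  rw [fpW, nfP, evA fun l hl => nfW_lt hl, evA fun l hl => nfW_lt hl]

theorem nfP_inj {a b : ℕ} (ha : a < 512) (hb : b < 512) (h : nfP a = nfP b) : a = b := by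
  have hn : ((List.range 512).map fun m => fpW (nfW m)).Nodup := fp_ok.symm ▸ fp_nodup
  refine List.inj_on_of_nodup_map hn (List.mem_range.2 ha) (List.mem_range.2 hb) ?_
  rw [fp_eq, fp_eq, h]

theorem card_kerGrp : Nat.card kerGrp = 512 := by
  have hb : Function.Bijective fun m : Fin 512 => (⟨nfP m.val, nfP_mem _⟩ : kerGrp) :=
    ⟨fun a b e => Fin.ext (nfP_inj a.isLt b.isLt (congrArg Subtype.val e)), fun z => by
      obtain ⟨m, hm, e⟩ := kerGrp_cases z.2
      exact ⟨⟨m, hm⟩, Subtype.ext e⟩⟩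
  rw [← Nat.card_congr (Equiv.ofBijective _ hb), Nat.card_fin]

theorem kerGrp_le : kerGrp ≤ rho.ker.map centGrp.subtype := (Subgroup.closure_le _).2 (by
  rintro _ ⟨g, hg, rfl⟩
  have h := good_carry (ker_lt hg) (List.all_eq_true.1 carry_ok.2.1 g hg)
  rw [SpSixTwo.el_nil, map_one] at h
  exact ⟨⟨imA g, Subgroup.subset_closure ⟨g, List.mem_append_right _ hg, rfl⟩⟩, rho_eq h, rfl⟩)

theorem orders : centGrp = centP ∧ rho.ker.map centGrp.subtype = kerGrp := by
  set K := rho.ker.map centGrp.subtype with hK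
  have hKc : Nat.card K = Nat.card rho.ker := Subgroup.card_map_of_injective centGrp.subtype_injective
  have hi : rho.ker.index = 1451520 := by
    rw [Subgroup.index_ker, MonoidHom.range_eq_top.2 rho_surjective, Subgroup.card_top, SpSixTwo.card_Sp]
  have h2 := rho.ker.card_mul_index
  rw [hi] at h2
  obtain ⟨d, hd⟩ := Subgroup.card_dvd_of_le kerGrp_le
  rw [hKc, card_kerGrp] at hd
  have hle := (Nat.card_le_card_of_injective _ (Subgroup.inclusion_injective centGrp_le)).trans card_centP_le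
  have hd1 : d = 1 := by
    have hp : 0 < Nat.card rho.ker := Nat.card_pos
    rw [hd] at h2 hp
    rw [← h2] at hle
    omega
  have hk : kerGrp = K := Subgroup.eq_of_le_of_card_ge kerGrp_le (by rw [hKc, card_kerGrp, hd, hd1])
  refine ⟨Subgroup.eq_of_le_of_card_ge centGrp_le ?_, hk.symm⟩
  obtain ⟨c, hc⟩ := Subgroup.card_dvd_of_le centGrp_le
  have hle2 := card_centP_le
  rw [hc] at hle2 ⊢
  rw [hd, hd1] at h2
  rw [← h2] at hle2 ⊢
  have : c = 1 := by
    have hp : 0 < Nat.card centP := Nat.card_pos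
    rw [hc, ← h2] at hp
    omega
  rw [this, mul_one]

theorem main : ∃ t : ↥Cfsg.Spor.Co2, orderOf t = 2 ∧
    Cfsg.IsExtraspecial 2 (Cfsg.pCore 2 ↥(Subgroup.centralizer ({t} : Set ↥Cfsg.Spor.Co2))) ∧
    Nat.card (Cfsg.pCore 2 ↥(Subgroup.centralizer ({t} : Set ↥Cfsg.Spor.Co2))) = 2 ^ 9 ∧
    Nonempty (↥(Subgroup.centralizer ({t} : Set ↥Cfsg.Spor.Co2)) ⧸
      Cfsg.pCore 2 ↥(Subgroup.centralizer ({t} : Set ↥Cfsg.Spor.Co2)) ≃* Matrix.symplecticGroup (Fin 3) (ZMod 2)) := by
  obtain ⟨e⟩ := exists_equiv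
  haveI : Fact (Nat.Prime 2) := ⟨Nat.prime_two⟩
  set t := e.symm ⟨tP, imA_mem tI tI_lt⟩ with ht
  have het : (e t : Equiv.Perm (Fin data.n)) = tP := by rw [ht, e.apply_symm_apply]
  let j : ↥Cfsg.Spor.Co2 →* Equiv.Perm (Fin data.n) := data.grp.subtype.comp e.toMonoidHom
  have hj : Function.Injective j := Subtype.val_injective.comp e.injective
  have hord : orderOf t = 2 := by
    rw [← orderOf_injective j hj, show j t = tP from het]
    exact orderOf_eq_prime (by rw [pow_two]; exact tP_sq) tP_ne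
  let C := Subgroup.centralizer ({t} : Set ↥Cfsg.Spor.Co2)
  let f : C →* Equiv.Perm (Fin data.n) := j.comp C.subtype
  have hf : Function.Injective f := hj.comp Subtype.val_injective
  have hfm : ∀ x : C, f x ∈ centGrp := fun x => by
    rw [orders.1, mem_centP]
    refine ⟨(e x.1).2, ?_⟩
    have := congrArg j (Subgroup.mem_centralizer_singleton_iff.1 x.2)
    rwa [map_mul, map_mul, show j t = tP from het] at this
  have hfs : ∀ y ∈ centGrp, ∃ x : C, f x = y := fun y hy => by
    rw [orders.1, mem_centP] at hy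
    refine ⟨⟨e.symm ⟨y, hy.1⟩, Subgroup.mem_centralizer_singleton_iff.2 (hj ?_)⟩, ?_⟩
    · rw [map_mul, map_mul, show j t = tP from het]
      show (e (e.symm _) : Equiv.Perm (Fin data.n)) * tP = tP * (e (e.symm _) : Equiv.Perm (Fin data.n))
      rw [e.apply_symm_apply]
      exact hy.2
    · show (e (e.symm _) : Equiv.Perm (Fin data.n)) = y
      rw [e.apply_symm_apply]
  let φ : C →* SpSixTwo.Sp := rho.comp (f.codRestrict centGrp hfm)
  have hφ : Function.Surjective φ := fun M => by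
    obtain ⟨⟨y, hy⟩, rfl⟩ := rho_surjective M
    obtain ⟨x, rfl⟩ := hfs y hy
    exact ⟨x, rfl⟩
  have hker : φ.ker.map f = kerGrp := by
    refine le_antisymm ?_ fun y hy => ?_
    · rintro _ ⟨x, hx, rfl⟩
      rw [← orders.2]
      exact ⟨⟨f x, hfm x⟩, hx, rfl⟩
    · rw [← orders.2] at hy
      obtain ⟨y, hy, rfl⟩ := hy
      obtain ⟨x, hx⟩ := hfs y.1 y.2
      exact ⟨x, show rho ⟨f x, hfm x⟩ = 1 by rw [show (⟨f x, hfm x⟩ : centGrp) = y from Subtype.ext hx]; exact hy, hx⟩
  haveI : Finite C := Finite.of_injective f hf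
  have hcard : Nat.card φ.ker = 2 ^ 9 := by
    rw [← Subgroup.card_map_of_injective hf, hker, card_kerGrp]
    norm_num
  have hP : IsPGroup 2 φ.ker := IsPGroup.of_card hcard
  haveI : IsSimpleGroup SpSixTwo.Sp := by
    have h1 := Cfsg.Lib.Classical.isSimpleGroup_symplectic_quotient (F := ZMod 2) (m := 3) (by norm_num) (by norm_num)
    have hc : Subgroup.center SpSixTwo.Sp = ⊥ := Subgroup.eq_bot_of_card_eq _ (by
      rw [Cfsg.Lib.Classical.card_center_symplecticGroup (F := ZMod 2) (m := 3) (by norm_num), Nat.card_zmod]; rfl)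
    haveI := h1
    exact ((QuotientGroup.quotientMulEquivOfEq hc).trans QuotientGroup.quotientBot).symm.isSimpleGroup
  have hcore : Cfsg.pCore 2 C = φ.ker := by
    refine le_antisymm (sSup_le fun N hN => ?_) (le_sSup ⟨inferInstance, hP⟩)
    haveI := hN.1
    rcases (Subgroup.Normal.map hN.1 φ hφ).eq_bot_or_eq_top with h | h
    · exact (Subgroup.map_eq_bot_iff N).1 h
    · exfalso
      obtain ⟨k, hk⟩ := (hN.2.map φ).exists_card_eq
      rw [h, Subgroup.card_top, SpSixTwo.card_Sp] at hk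
      have h3 : 3 ∣ 2 ^ k := hk ▸ (by norm_num)
      exact absurd (Nat.prime_three.dvd_of_dvd_pow h3) (by norm_num)
  have hin : ∀ a : C, a ∈ φ.ker → ∃ m < 512, nfP m = f a := fun a ha =>
    kerGrp_cases (hker ▸ ⟨a, ha, rfl⟩)
  let z : C := ⟨t, Subgroup.mem_centralizer_singleton_iff.2 rfl⟩
  have hfz : f z = tP := het
  have hnf256 : nfP 256 = tP := by
    have hl : nfW 256 = [kerGens.getD 8 0] := rfl
    rw [nfP, hl, valA_one, noc_ok.2.2]
    rfl
  have hzz : z * z = 1 := hf (by rw [map_mul, hfz, map_one]; exact tP_sq)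
  have hz1 : z ≠ 1 := fun h => tP_ne (by rw [← hfz, h, map_one])
  have hzk : z ∈ φ.ker := by
    obtain ⟨a, ha, e⟩ : tP ∈ φ.ker.map f := hker.symm ▸ (hnf256 ▸ nfP_mem 256)
    rwa [← hf (hfz.trans e.symm)] at ha
  have hcen : ∀ a : C, Commute a z := fun a => Subtype.ext (Subgroup.mem_centralizer_singleton_iff.1 a.2)
  have hsq : ∀ a ∈ φ.ker, a * a = 1 ∨ a * a = z := fun a ha => by
    obtain ⟨m, hm, e⟩ := hin a ha
    have h := List.all_eq_true.1 sq_ok m (List.mem_range.2 hm)
    rw [Bool.or_eq_true] at h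
    rcases h with h | h
    · exact Or.inl (hf (by
        have := sameB_sound h
        rw [valA_app] at this
        rw [map_mul, map_one, ← e]
        exact this))
    · exact Or.inr (hf (by
        have := sameB_sound h
        rw [valA_app, valA_one] at this
        rw [map_mul, hfz, ← e]
        exact this))
  have hcomm : ∀ a ∈ φ.ker, ∀ b ∈ φ.ker, ⁅a, b⁆ = 1 ∨ ⁅a, b⁆ = z := fun a ha b hb => by
    have e : ⁅a, b⁆ = (a * a) * ((a⁻¹ * b) * (a⁻¹ * b)) * (b⁻¹ * b⁻¹) := by rw [commutatorElement_def]; group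
    rw [e]
    rcases hsq a ha with h1 | h1 <;> rcases hsq _ (mul_mem (inv_mem ha) hb) with h2 | h2 <;>
      rcases hsq _ (inv_mem hb) with h3 | h3 <;> rw [h1, h2, h3] <;> simp [hzz]
  have hnoc : ∀ m < 512, m ≠ 0 → m ≠ 256 → ∀ c : C, f c = nfP m → ∃ a ∈ φ.ker, ¬ Commute a c := by
    intro m hm h0 h256 c hc
    have h := List.all_eq_true.1 noc_ok.1 m (List.mem_range.2 hm)
    simp only [Bool.or_eq_true, beq_iff_eq, Bool.not_eq_true'] at h
    have h := h.resolve_left (not_or_intro h0 h256)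
    set i := nocTab.getD m 0
    by_cases hi : i < kerGens.length
    · have hg : kerGens.getD i 0 ∈ kerGens := by rw [List.getD_eq_getElem _ _ hi]; exact List.getElem_mem hi
      obtain ⟨a, ha, e⟩ : imA (kerGens.getD i 0) ∈ φ.ker.map f := hker.symm ▸ Subgroup.subset_closure ⟨_, hg, rfl⟩
      refine ⟨a, ha, fun hco => ?_⟩
      have := sameB_of_eq (w := nfW m ++ [kerGens.getD i 0]) (v := kerGens.getD i 0 :: nfW m)
        (fun l hl => by
          rcases List.mem_append.1 hl with h | h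
          · exact nfW_lt h
          · exact List.mem_singleton.1 h ▸ ker_lt hg)
        (fun l hl => by
          rcases List.mem_cons.1 hl with h | h
          · exact h ▸ ker_lt hg
          · exact nfW_lt h)
        (by
          rw [valA_app, valA_one, valA_cons, ← e, ← show f c = wval imA (nfW m) from hc, ← map_mul, ← map_mul, hco.eq])
      rw [h] at this
      exact Bool.noConfusion this
    · exfalso
      have hi' : kerGens.getD i 0 = 0 := List.getD_eq_default _ _ (not_lt.1 hi)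
      have := List.all_eq_true.1 nocTab_lt m (List.mem_range.2 hm)
      rw [Nat.blt_eq] at this
      exact hi (noc_ok.2.1.symm ▸ this)
  refine ⟨t, hord, ?_, by rw [hcore]; exact hcard, ?_⟩
  · rw [hcore]
    refine Cfsg.Lib.LargeExtra.isExtraspecial_of hP hzk hz1 hzz (fun a _ => hcen a) hcomm hsq (fun c hc hall => ?_) ?_
    · obtain ⟨m, hm, e⟩ := hin c hc
      by_cases h0 : m = 0
      · exact Or.inl (hf (by rw [map_one, ← e, h0]; simp [nfP, nfW, wval]))
      by_cases h256 : m = 256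
      · exact Or.inr (hf (by rw [hfz, ← e, h256, hnf256]))
      obtain ⟨a, ha, hn⟩ := hnoc m hm h0 h256 c e.symm
      exact absurd (hall a ha) hn
    · obtain ⟨b, hb, e⟩ : nfP 1 ∈ φ.ker.map f := hker.symm ▸ nfP_mem 1
      obtain ⟨a, ha, hn⟩ := hnoc 1 (by norm_num) (by norm_num) (by norm_num) b e
      exact ⟨a, ha, b, hb, hn⟩
  · exact ⟨(QuotientGroup.quotientMulEquivOfEq hcore).trans (QuotientGroup.quotientKerEquivOfSurjective φ hφ)⟩

end Cfsg.Lib.CoTwoModel.Inv
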