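import Cfsg.Agent.CoTwoModel.Data
import Cfsg.Agent.Leech.Mult.Elem
import Cfsg.Agent.Leech.Stab.Data

/-!
Kernel checks on the 2300 pairs of vectors.
-/

set_option autoImplicit false
set_option Elab.async false

namespace Cfsg.Lib.CoTwoModel

open Cfsg Cfsg.Lib.CosetCert Cfsg.Lib.CosetCert.OutTwist Cfsg.Lib.Leech Cfsg.Lib.Leech.Stab Cfsg.Lib.Golay

/-- The key of a pair's chosen vector. -/
def key (i : ℕ) : ℕ := (keyChunks.getD (i / 50) []).getD (i % 50) 0

/-- The key of the other vector of a pair. -/
def mate (i : ℕ) : ℕ := (partnerChunks.getD (i / 50) []).getD (i % 50) 0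

/-- Look up a position. -/
def KT.look : KT → ℕ → Option ℕ
  | .leaf, _ => none
  | .node l k c r, x => bif Nat.blt x k then l.look x else bif Nat.blt k x then r.look x else some c

/-- The checks of a pair. -/
def pairOK (i : ℕ) : Bool :=
  inL (dec (key i)) && decide (Cfsg.sqNorm (dec (key i)) = 32) && Nat.blt (key i) (2 ^ 120) &&
    Nat.blt (mate i) (2 ^ 120) && (dotK kP (key i) == -16) &&
    ((List.range 24).all fun j => co (mate i) j == -co kP j - co (key i) j) &&
    (keyTree.look (key i) == some (2 * i)) && (keyTree.look (mate i) == some (2 * i + 1))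

/-- The atoms of a generator. -/
def atomsOf (j : ℕ) : List Atom := [gen0, gen1, gen2, gen3].getD j []

theorem atoms_fix : ((List.range 4).all fun j => (atomsOf j).all (·.ok) && (Stab.evalW (atomsOf j) kP == kP)) = true := by
  decide +kernel

/-- A generator maps a pair as its table says. -/
def mapOK (i : ℕ) : Bool :=
  (List.range 4).all fun j =>
    (Stab.evalW (atomsOf j) (key i) == key (Cfsg.Lib.PermCert.ap (data.xTabs.getD (8 + j) (0, 0)).1 i)) ||
      (Stab.evalW (atomsOf j) (key i) == mate (Cfsg.Lib.PermCert.ap (data.xTabs.getD (8 + j) (0, 0)).1 i))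

theorem pairOK_0 : (List.range' 0 100).all pairOK = true := by decide +kernel

theorem pairOK_1 : (List.range' 100 100).all pairOK = true := by decide +kernel

theorem pairOK_2 : (List.range' 200 100).all pairOK = true := by decide +kernel

theorem pairOK_3 : (List.range' 300 100).all pairOK = true := by decide +kernel

theorem pairOK_4 : (List.range' 400 100).all pairOK = true := by decide +kernel

theorem pairOK_5 : (List.range' 500 100).all pairOK = true := by decide +kernel

theorem pairOK_6 : (List.range' 600 100).all pairOK = true := by decide +kernel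

theorem pairOK_7 : (List.range' 700 100).all pairOK = true := by decide +kernel

theorem pairOK_8 : (List.range' 800 100).all pairOK = true := by decide +kernel

theorem pairOK_9 : (List.range' 900 100).all pairOK = true := by decide +kernel

theorem pairOK_10 : (List.range' 1000 100).all pairOK = true := by decide +kernel

theorem pairOK_11 : (List.range' 1100 100).all pairOK = true := by decide +kernel

theorem pairOK_12 : (List.range' 1200 100).all pairOK = true := by decide +kernel

theorem pairOK_13 : (List.range' 1300 100).all pairOK = true := by decide +kernel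

theorem pairOK_14 : (List.range' 1400 100).all pairOK = true := by decide +kernel

theorem pairOK_15 : (List.range' 1500 100).all pairOK = true := by decide +kernel

theorem pairOK_16 : (List.range' 1600 100).all pairOK = true := by decide +kernel

theorem pairOK_17 : (List.range' 1700 100).all pairOK = true := by decide +kernel

theorem pairOK_18 : (List.range' 1800 100).all pairOK = true := by decide +kernel

theorem pairOK_19 : (List.range' 1900 100).all pairOK = true := by decide +kernel

theorem pairOK_20 : (List.range' 2000 100).all pairOK = true := by decide +kernel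

theorem pairOK_21 : (List.range' 2100 100).all pairOK = true := by decide +kernel

theorem pairOK_22 : (List.range' 2200 100).all pairOK = true := by decide +kernel

theorem pairOK_all {r : ℕ} (h : r < 2300) : pairOK r = true := by
  by_cases h0 : r < 100
  · exact List.all_eq_true.1 pairOK_0 r (List.mem_range'_1.2 (by omega))
  by_cases h1 : r < 200
  · exact List.all_eq_true.1 pairOK_1 r (List.mem_range'_1.2 (by omega))
  by_cases h2 : r < 300
  · exact List.all_eq_true.1 pairOK_2 r (List.mem_range'_1.2 (by omega))
  by_cases h3 : r < 400
  · exact List.all_eq_true.1 pairOK_3 r (List.mem_range'_1.2 (by omega))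
  by_cases h4 : r < 500
  · exact List.all_eq_true.1 pairOK_4 r (List.mem_range'_1.2 (by omega))
  by_cases h5 : r < 600
  · exact List.all_eq_true.1 pairOK_5 r (List.mem_range'_1.2 (by omega))
  by_cases h6 : r < 700
  · exact List.all_eq_true.1 pairOK_6 r (List.mem_range'_1.2 (by omega))
  by_cases h7 : r < 800
  · exact List.all_eq_true.1 pairOK_7 r (List.mem_range'_1.2 (by omega))
  by_cases h8 : r < 900
  · exact List.all_eq_true.1 pairOK_8 r (List.mem_range'_1.2 (by omega))
  by_cases h9 : r < 1000
  · exact List.all_eq_true.1 pairOK_9 r (List.mem_range'_1.2 (by omega))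
  by_cases h10 : r < 1100
  · exact List.all_eq_true.1 pairOK_10 r (List.mem_range'_1.2 (by omega))
  by_cases h11 : r < 1200
  · exact List.all_eq_true.1 pairOK_11 r (List.mem_range'_1.2 (by omega))
  by_cases h12 : r < 1300
  · exact List.all_eq_true.1 pairOK_12 r (List.mem_range'_1.2 (by omega))
  by_cases h13 : r < 1400
  · exact List.all_eq_true.1 pairOK_13 r (List.mem_range'_1.2 (by omega))
  by_cases h14 : r < 1500
  · exact List.all_eq_true.1 pairOK_14 r (List.mem_range'_1.2 (by omega))
  by_cases h15 : r < 1600
  · exact List.all_eq_true.1 pairOK_15 r (List.mem_range'_1.2 (by omega))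
  by_cases h16 : r < 1700
  · exact List.all_eq_true.1 pairOK_16 r (List.mem_range'_1.2 (by omega))
  by_cases h17 : r < 1800
  · exact List.all_eq_true.1 pairOK_17 r (List.mem_range'_1.2 (by omega))
  by_cases h18 : r < 1900
  · exact List.all_eq_true.1 pairOK_18 r (List.mem_range'_1.2 (by omega))
  by_cases h19 : r < 2000
  · exact List.all_eq_true.1 pairOK_19 r (List.mem_range'_1.2 (by omega))
  by_cases h20 : r < 2100
  · exact List.all_eq_true.1 pairOK_20 r (List.mem_range'_1.2 (by omega))
  by_cases h21 : r < 2200
  · exact List.all_eq_true.1 pairOK_21 r (List.mem_range'_1.2 (by omega))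
  exact List.all_eq_true.1 pairOK_22 r (List.mem_range'_1.2 (by omega))

theorem mapOK_0 : (List.range' 0 100).all mapOK = true := by decide +kernel

theorem mapOK_1 : (List.range' 100 100).all mapOK = true := by decide +kernel

theorem mapOK_2 : (List.range' 200 100).all mapOK = true := by decide +kernel

theorem mapOK_3 : (List.range' 300 100).all mapOK = true := by decide +kernel

theorem mapOK_4 : (List.range' 400 100).all mapOK = true := by decide +kernel

theorem mapOK_5 : (List.range' 500 100).all mapOK = true := by decide +kernel

theorem mapOK_6 : (List.range' 600 100).all mapOK = true := by decide +kernel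

theorem mapOK_7 : (List.range' 700 100).all mapOK = true := by decide +kernel

theorem mapOK_8 : (List.range' 800 100).all mapOK = true := by decide +kernel

theorem mapOK_9 : (List.range' 900 100).all mapOK = true := by decide +kernel

theorem mapOK_10 : (List.range' 1000 100).all mapOK = true := by decide +kernel

theorem mapOK_11 : (List.range' 1100 100).all mapOK = true := by decide +kernel

theorem mapOK_12 : (List.range' 1200 100).all mapOK = true := by decide +kernel

theorem mapOK_13 : (List.range' 1300 100).all mapOK = true := by decide +kernel

theorem mapOK_14 : (List.range' 1400 100).all mapOK = true := by decide +kernel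

theorem mapOK_15 : (List.range' 1500 100).all mapOK = true := by decide +kernel

theorem mapOK_16 : (List.range' 1600 100).all mapOK = true := by decide +kernel

theorem mapOK_17 : (List.range' 1700 100).all mapOK = true := by decide +kernel

theorem mapOK_18 : (List.range' 1800 100).all mapOK = true := by decide +kernel

theorem mapOK_19 : (List.range' 1900 100).all mapOK = true := by decide +kernel

theorem mapOK_20 : (List.range' 2000 100).all mapOK = true := by decide +kernel

theorem mapOK_21 : (List.range' 2100 100).all mapOK = true := by decide +kernel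

theorem mapOK_22 : (List.range' 2200 100).all mapOK = true := by decide +kernel

theorem mapOK_all {r : ℕ} (h : r < 2300) : mapOK r = true := by
  by_cases h0 : r < 100
  · exact List.all_eq_true.1 mapOK_0 r (List.mem_range'_1.2 (by omega))
  by_cases h1 : r < 200
  · exact List.all_eq_true.1 mapOK_1 r (List.mem_range'_1.2 (by omega))
  by_cases h2 : r < 300
  · exact List.all_eq_true.1 mapOK_2 r (List.mem_range'_1.2 (by omega))
  by_cases h3 : r < 400
  · exact List.all_eq_true.1 mapOK_3 r (List.mem_range'_1.2 (by omega))
  by_cases h4 : r < 500
  · exact List.all_eq_true.1 mapOK_4 r (List.mem_range'_1.2 (by omega))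
  by_cases h5 : r < 600
  · exact List.all_eq_true.1 mapOK_5 r (List.mem_range'_1.2 (by omega))
  by_cases h6 : r < 700
  · exact List.all_eq_true.1 mapOK_6 r (List.mem_range'_1.2 (by omega))
  by_cases h7 : r < 800
  · exact List.all_eq_true.1 mapOK_7 r (List.mem_range'_1.2 (by omega))
  by_cases h8 : r < 900
  · exact List.all_eq_true.1 mapOK_8 r (List.mem_range'_1.2 (by omega))
  by_cases h9 : r < 1000
  · exact List.all_eq_true.1 mapOK_9 r (List.mem_range'_1.2 (by omega))
  by_cases h10 : r < 1100
  · exact List.all_eq_true.1 mapOK_10 r (List.mem_range'_1.2 (by omega))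
  by_cases h11 : r < 1200
  · exact List.all_eq_true.1 mapOK_11 r (List.mem_range'_1.2 (by omega))
  by_cases h12 : r < 1300
  · exact List.all_eq_true.1 mapOK_12 r (List.mem_range'_1.2 (by omega))
  by_cases h13 : r < 1400
  · exact List.all_eq_true.1 mapOK_13 r (List.mem_range'_1.2 (by omega))
  by_cases h14 : r < 1500
  · exact List.all_eq_true.1 mapOK_14 r (List.mem_range'_1.2 (by omega))
  by_cases h15 : r < 1600
  · exact List.all_eq_true.1 mapOK_15 r (List.mem_range'_1.2 (by omega))
  by_cases h16 : r < 1700
  · exact List.all_eq_true.1 mapOK_16 r (List.mem_range'_1.2 (by omega))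
  by_cases h17 : r < 1800
  · exact List.all_eq_true.1 mapOK_17 r (List.mem_range'_1.2 (by omega))
  by_cases h18 : r < 1900
  · exact List.all_eq_true.1 mapOK_18 r (List.mem_range'_1.2 (by omega))
  by_cases h19 : r < 2000
  · exact List.all_eq_true.1 mapOK_19 r (List.mem_range'_1.2 (by omega))
  by_cases h20 : r < 2100
  · exact List.all_eq_true.1 mapOK_20 r (List.mem_range'_1.2 (by omega))
  by_cases h21 : r < 2200
  · exact List.all_eq_true.1 mapOK_21 r (List.mem_range'_1.2 (by omega))
  exact List.all_eq_true.1 mapOK_22 r (List.mem_range'_1.2 (by omega))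

end Cfsg.Lib.CoTwoModel
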