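import Cfsg.Agent.CoTwoModel.Data

/-!
Centraliser tests for the Conway group Co2 (U), in chunks.
-/

set_option autoImplicit false
set_option Elab.async false

namespace Cfsg.Lib.CoTwoModel

open Cfsg.Lib.CosetCert Cfsg.Lib.CosetCert.OutTwist

theorem testU_0 : (List.range' 0 100).all data.testU = true := by decide +kernel

theorem testU_1 : (List.range' 100 100).all data.testU = true := by decide +kernel

theorem testU_2 : (List.range' 200 100).all data.testU = true := by decide +kernel

theorem testU_3 : (List.range' 300 100).all data.testU = true := by decide +kernel

theorem testU_4 : (List.range' 400 100).all data.testU = true := by decide +kernel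

theorem testU_5 : (List.range' 500 100).all data.testU = true := by decide +kernel

theorem testU_6 : (List.range' 600 100).all data.testU = true := by decide +kernel

theorem testU_7 : (List.range' 700 100).all data.testU = true := by decide +kernel

theorem testU_8 : (List.range' 800 100).all data.testU = true := by decide +kernel

theorem testU_9 : (List.range' 900 100).all data.testU = true := by decide +kernel

theorem testU_10 : (List.range' 1000 100).all data.testU = true := by decide +kernel

theorem testU_11 : (List.range' 1100 100).all data.testU = true := by decide +kernel

theorem testU_12 : (List.range' 1200 100).all data.testU = true := by decide +kernel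

theorem testU_13 : (List.range' 1300 100).all data.testU = true := by decide +kernel

theorem testU_14 : (List.range' 1400 100).all data.testU = true := by decide +kernel

theorem testU_15 : (List.range' 1500 100).all data.testU = true := by decide +kernel

theorem testU_16 : (List.range' 1600 100).all data.testU = true := by decide +kernel

theorem testU_17 : (List.range' 1700 100).all data.testU = true := by decide +kernel

theorem testU_18 : (List.range' 1800 100).all data.testU = true := by decide +kernel

theorem testU_19 : (List.range' 1900 100).all data.testU = true := by decide +kernel

theorem testU_20 : (List.range' 2000 100).all data.testU = true := by decide +kernel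

theorem testU_21 : (List.range' 2100 100).all data.testU = true := by decide +kernel

theorem testU_22 : (List.range' 2200 100).all data.testU = true := by decide +kernel

theorem testU_all {r : ℕ} (h : r < 2300) : data.testU r = true := by
  by_cases h0 : r < 100
  · exact List.all_eq_true.1 testU_0 r (List.mem_range'_1.2 (by omega))
  by_cases h1 : r < 200
  · exact List.all_eq_true.1 testU_1 r (List.mem_range'_1.2 (by omega))
  by_cases h2 : r < 300
  · exact List.all_eq_true.1 testU_2 r (List.mem_range'_1.2 (by omega))
  by_cases h3 : r < 400
  · exact List.all_eq_true.1 testU_3 r (List.mem_range'_1.2 (by omega))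
  by_cases h4 : r < 500
  · exact List.all_eq_true.1 testU_4 r (List.mem_range'_1.2 (by omega))
  by_cases h5 : r < 600
  · exact List.all_eq_true.1 testU_5 r (List.mem_range'_1.2 (by omega))
  by_cases h6 : r < 700
  · exact List.all_eq_true.1 testU_6 r (List.mem_range'_1.2 (by omega))
  by_cases h7 : r < 800
  · exact List.all_eq_true.1 testU_7 r (List.mem_range'_1.2 (by omega))
  by_cases h8 : r < 900
  · exact List.all_eq_true.1 testU_8 r (List.mem_range'_1.2 (by omega))
  by_cases h9 : r < 1000
  · exact List.all_eq_true.1 testU_9 r (List.mem_range'_1.2 (by omega))
  by_cases h10 : r < 1100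
  · exact List.all_eq_true.1 testU_10 r (List.mem_range'_1.2 (by omega))
  by_cases h11 : r < 1200
  · exact List.all_eq_true.1 testU_11 r (List.mem_range'_1.2 (by omega))
  by_cases h12 : r < 1300
  · exact List.all_eq_true.1 testU_12 r (List.mem_range'_1.2 (by omega))
  by_cases h13 : r < 1400
  · exact List.all_eq_true.1 testU_13 r (List.mem_range'_1.2 (by omega))
  by_cases h14 : r < 1500
  · exact List.all_eq_true.1 testU_14 r (List.mem_range'_1.2 (by omega))
  by_cases h15 : r < 1600
  · exact List.all_eq_true.1 testU_15 r (List.mem_range'_1.2 (by omega))
  by_cases h16 : r < 1700
  · exact List.all_eq_true.1 testU_16 r (List.mem_range'_1.2 (by omega))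
  by_cases h17 : r < 1800
  · exact List.all_eq_true.1 testU_17 r (List.mem_range'_1.2 (by omega))
  by_cases h18 : r < 1900
  · exact List.all_eq_true.1 testU_18 r (List.mem_range'_1.2 (by omega))
  by_cases h19 : r < 2000
  · exact List.all_eq_true.1 testU_19 r (List.mem_range'_1.2 (by omega))
  by_cases h20 : r < 2100
  · exact List.all_eq_true.1 testU_20 r (List.mem_range'_1.2 (by omega))
  by_cases h21 : r < 2200
  · exact List.all_eq_true.1 testU_21 r (List.mem_range'_1.2 (by omega))
  exact List.all_eq_true.1 testU_22 r (List.mem_range'_1.2 (by omega))

end Cfsg.Lib.CoTwoModel
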