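import Cfsg.Agent.CoTwoModel.Data

/-!
Centraliser tests for the Conway group Co2 (Y), part 2.
-/

set_option autoImplicit false
set_option Elab.async false

namespace Cfsg.Lib.CoTwoModel

open Cfsg.Lib.CosetCert Cfsg.Lib.CosetCert.OutTwist

theorem testY_8 : (List.range' 800 100).all (fun r => data.testY r r) = true := by decide +kernel

theorem testY_9 : (List.range' 900 100).all (fun r => data.testY r r) = true := by decide +kernel

theorem testY_10 : (List.range' 1000 100).all (fun r => data.testY r r) = true := by decide +kernel

theorem testY_11 : (List.range' 1100 100).all (fun r => data.testY r r) = true := by decide +kernel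

end Cfsg.Lib.CoTwoModel
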