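import Cfsg.Agent.CoTwoModel.Data
import Cfsg.Agent.CosetCert.OutTwistFast

/-!
Centraliser tests for the Conway group Co2 (Y), part 6.
-/

set_option autoImplicit false
set_option Elab.async false

namespace Cfsg.Lib.CoTwoModel

open Cfsg.Lib.CosetCert Cfsg.Lib.CosetCert.OutTwist

theorem testYc_6 : (List.range' 600 100).all (fun r => data.testYc r r) = true := by decide +kernel

theorem testY_6 : (List.range' 600 100).all (fun r => data.testY r r) = true :=
  List.all_eq_true.2 fun r hr => Data.testY_of_testYc _ (List.all_eq_true.1 testYc_6 r hr)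

end Cfsg.Lib.CoTwoModel
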