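import Cfsg.Agent.CoTwoModel.TestY0
import Cfsg.Agent.CoTwoModel.TestY1
import Cfsg.Agent.CoTwoModel.TestY2
import Cfsg.Agent.CoTwoModel.TestY3
import Cfsg.Agent.CoTwoModel.TestY4
import Cfsg.Agent.CoTwoModel.TestY5
import Cfsg.Agent.CoTwoModel.TestY6
import Cfsg.Agent.CoTwoModel.TestY7
import Cfsg.Agent.CoTwoModel.TestY8

/-!
Centraliser tests for the Conway group Co2 (Y), in chunks.
-/

set_option autoImplicit false
set_option Elab.async false

namespace Cfsg.Lib.CoTwoModel

open Cfsg.Lib.CosetCert Cfsg.Lib.CosetCert.OutTwist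

theorem testY_all {r : ℕ} (h : r < 2300) : data.testY r r = true := by
  by_cases h0 : r < 100
  · exact List.all_eq_true.1 testY_0 r (List.mem_range'_1.2 (by omega))
  by_cases h1 : r < 200
  · exact List.all_eq_true.1 testY_1 r (List.mem_range'_1.2 (by omega))
  by_cases h2 : r < 300
  · exact List.all_eq_true.1 testY_2 r (List.mem_range'_1.2 (by omega))
  by_cases h3 : r < 400
  · exact List.all_eq_true.1 testY_3 r (List.mem_range'_1.2 (by omega))
  by_cases h4 : r < 500
  · exact List.all_eq_true.1 testY_4 r (List.mem_range'_1.2 (by omega))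
  by_cases h5 : r < 600
  · exact List.all_eq_true.1 testY_5 r (List.mem_range'_1.2 (by omega))
  by_cases h6 : r < 700
  · exact List.all_eq_true.1 testY_6 r (List.mem_range'_1.2 (by omega))
  by_cases h7 : r < 800
  · exact List.all_eq_true.1 testY_7 r (List.mem_range'_1.2 (by omega))
  by_cases h8 : r < 900
  · exact List.all_eq_true.1 testY_8 r (List.mem_range'_1.2 (by omega))
  by_cases h9 : r < 1000
  · exact List.all_eq_true.1 testY_9 r (List.mem_range'_1.2 (by omega))
  by_cases h10 : r < 1100
  · exact List.all_eq_true.1 testY_10 r (List.mem_range'_1.2 (by omega))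
  by_cases h11 : r < 1200
  · exact List.all_eq_true.1 testY_11 r (List.mem_range'_1.2 (by omega))
  by_cases h12 : r < 1300
  · exact List.all_eq_true.1 testY_12 r (List.mem_range'_1.2 (by omega))
  by_cases h13 : r < 1400
  · exact List.all_eq_true.1 testY_13 r (List.mem_range'_1.2 (by omega))
  by_cases h14 : r < 1500
  · exact List.all_eq_true.1 testY_14 r (List.mem_range'_1.2 (by omega))
  by_cases h15 : r < 1600
  · exact List.all_eq_true.1 testY_15 r (List.mem_range'_1.2 (by omega))
  by_cases h16 : r < 1700
  · exact List.all_eq_true.1 testY_16 r (List.mem_range'_1.2 (by omega))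
  by_cases h17 : r < 1800
  · exact List.all_eq_true.1 testY_17 r (List.mem_range'_1.2 (by omega))
  by_cases h18 : r < 1900
  · exact List.all_eq_true.1 testY_18 r (List.mem_range'_1.2 (by omega))
  by_cases h19 : r < 2000
  · exact List.all_eq_true.1 testY_19 r (List.mem_range'_1.2 (by omega))
  by_cases h20 : r < 2100
  · exact List.all_eq_true.1 testY_20 r (List.mem_range'_1.2 (by omega))
  by_cases h21 : r < 2200
  · exact List.all_eq_true.1 testY_21 r (List.mem_range'_1.2 (by omega))
  exact List.all_eq_true.1 testY_22 r (List.mem_range'_1.2 (by omega))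

end Cfsg.Lib.CoTwoModel
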