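import Cfsg.Agent.CoTwoModel.Checks
import Cfsg.Agent.CoTwoModel.Pairs
import Cfsg.Agent.CoTwoModel.TestU
import Cfsg.Agent.CoTwoModel.TestY
import Cfsg.Agent.Leech.PointSimple
import Cfsg.Agent.Leech.Stab.Configurations
import Cfsg.Agent.Leech.Co2Core
import Cfsg.Prelude.Def_Spor_Conway

/-!
The Conway group Co2 as a permutation group on 2300 pairs of vectors, and its outer automorphism group.
-/

set_option autoImplicit false
set_option maxRecDepth 8000
set_option Elab.async false

namespace Cfsg.Lib.CoTwoModel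

open Cfsg Cfsg.Lib.CosetCert Cfsg.Lib.CosetCert.OutTwist Cfsg.Lib.Leech Cfsg.Lib.Leech.Stab Cfsg.Lib.Golay MulAction
open Cfsg.Lib.Leech.Mult (el el_smul)

theorem valid_data : data.Valid where
  prime := by show Nat.Prime 23; norm_num
  static := static_ok
  local_ := local_ok
  testU _ hr := testU_all hr
  testY r₁ h₁ r₂ _ h := by
    rw [← h rfl]
    exact testY_all h₁

theorem key_facts (i : Fin 2300) : inL (dec (key i.val)) = true ∧ Cfsg.sqNorm (dec (key i.val)) = 32 ∧
    key i.val < 2 ^ 120 ∧ mate i.val < 2 ^ 120 ∧ dotK kP (key i.val) = -16 ∧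
    (∀ j < 24, co (mate i.val) j = -co kP j - co (key i.val) j) ∧
    keyTree.look (key i.val) = some (2 * i.val) ∧ keyTree.look (mate i.val) = some (2 * i.val + 1) := by
  have h := pairOK_all i.isLt
  simp only [pairOK, Bool.and_eq_true, decide_eq_true_eq, beq_iff_eq, List.all_eq_true, List.mem_range] at h
  exact ⟨h.1.1.1.1.1.1.1, h.1.1.1.1.1.1.2, Nat.le_of_ble_eq_true h.1.1.1.1.1.2, Nat.le_of_ble_eq_true h.1.1.1.1.2,
    h.1.1.1.2, h.1.1.2, h.1.2, h.2⟩

theorem key_short (i : Fin 2300) : Short (key i.val) :=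
  ⟨mem_of_inL (key_facts i).1, (key_facts i).2.1.le.trans (by norm_num)⟩

/-- The chosen vector of a pair, or the other one. -/
noncomputable def vec : Fin 2300 × Bool → leechLattice
  | (i, false) => ⟨dec (key i.val), (key_short i).1⟩
  | (i, true) => -bP - ⟨dec (key i.val), (key_short i).1⟩

theorem vec_true (i : Fin 2300) : (vec (i, true) : GolayPt → ℤ) = dec (mate i.val) := by
  funext p
  have h := (key_facts i).2.2.2.2.2.1 (pidx p) (pidx_lt p)
  show -(bP : GolayPt → ℤ) p - dec (key i.val) p = _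
  rw [← dec_kP]
  exact h.symm

/-- The set of 4600 vectors. -/
def shell : Set leechLattice :=
  {x | Cfsg.sqNorm (x : GolayPt → ℤ) = 32 ∧ dotInt (bP : GolayPt → ℤ) (x : GolayPt → ℤ) = -16}

theorem shell_card : shell.ncard = 4600 := by
  rw [← count_P16, ← census1P fun a => a == -16]
  congr 1
  ext x
  simp [shell, dec_kP]

theorem vec_mem (a : Fin 2300 × Bool) : vec a ∈ shell := by
  obtain ⟨i, b⟩ := a
  have hn := (key_facts i).2.1
  have hd : dotInt (bP : GolayPt → ℤ) (dec (key i.val)) = -16 := by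
    rw [← dec_kP]
    exact (dotK_eq kP (key i.val)).symm.trans (key_facts i).2.2.2.2.1
  cases b
  · exact ⟨hn, hd⟩
  · show Cfsg.sqNorm (-(bP : GolayPt → ℤ) - dec (key i.val)) = 32 ∧
      dotInt (bP : GolayPt → ℤ) (-(bP : GolayPt → ℤ) - dec (key i.val)) = -16
    have hneg : ∀ v w : GolayPt → ℤ, Cfsg.sqNorm (-v - w) = Cfsg.sqNorm v + Cfsg.sqNorm w + 2 * dotInt v w ∧
        dotInt v (-v - w) = -Cfsg.sqNorm v - dotInt v w := fun v w => by
      refine ⟨?_, ?_⟩
      · simp only [Cfsg.sqNorm, dotInt, Finset.mul_sum, ← Finset.sum_add_distrib]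
        exact Finset.sum_congr rfl fun p _ => by simp only [Pi.sub_apply, Pi.neg_apply]; ring
      · simp only [Cfsg.sqNorm, dotInt, ← Finset.sum_neg_distrib, ← Finset.sum_sub_distrib]
        exact Finset.sum_congr rfl fun p _ => by simp only [Pi.sub_apply, Pi.neg_apply]; ring
    rw [(hneg _ _).1, (hneg _ _).2, bP_norm, hn, hd]
    norm_num

theorem vec_inj : Function.Injective vec := by
  have ek : ∀ (i : Fin 2300) (b : Bool), (vec (i, b) : GolayPt → ℤ) = dec (if b then mate i.val else key i.val) :=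
    fun i b => by
      cases b
      · rfl
      · exact vec_true i
  have hb : ∀ (i : Fin 2300) (b : Bool), (if b then mate i.val else key i.val) < 2 ^ 120 := fun i b => by
    cases b
    · exact (key_facts i).2.2.1
    · exact (key_facts i).2.2.2.1
  have hl : ∀ (i : Fin 2300) (b : Bool),
      keyTree.look (if b then mate i.val else key i.val) = some (if b then 2 * i.val + 1 else 2 * i.val) := fun i b => by
    cases b
    · exact (key_facts i).2.2.2.2.2.2.1
    · exact (key_facts i).2.2.2.2.2.2.2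
  intro a a' h
  obtain ⟨i, b⟩ := a
  obtain ⟨j, c⟩ := a'
  have e := key_ext (hb i b) (hb j c) (by rw [← ek, ← ek, h])
  have e2 := hl i b
  rw [e, hl j c, Option.some.injEq] at e2
  cases b <;> cases c <;> simp only [Bool.false_eq_true, if_false, if_true] at e2 <;>
    first
    | exact Prod.ext (Fin.ext (by show i.val = j.val; omega)) rfl
    | omega

/-- Pairs with a side, and vectors. -/
noncomputable def vEquiv : Fin 2300 × Bool ≃ shell := by
  refine Equiv.ofBijective (fun a => ⟨vec a, vec_mem a⟩) ?_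
  haveI : Finite shell := Set.finite_of_ncard_ne_zero (by rw [shell_card]; norm_num)
  refine (Nat.bijective_iff_injective_and_card _).2 ⟨fun i j h => vec_inj (congrArg Subtype.val h), ?_⟩
  rw [Nat.card_coe_set_eq, shell_card, Nat.card_prod, Nat.card_fin, Nat.card_eq_fintype_card (α := Bool),
    Fintype.card_bool]

/-- The stabiliser of the base vector. -/
abbrev coGrp : Subgroup Co0 := stabilizer Co0 bP

theorem smul_sub_bD (g : coGrp) (x : leechLattice) : (g : Co0) • (-bP - x) = -bP - (g : Co0) • x := by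
  let F : leechLattice →+ leechLattice :=
    AddMonoidHom.mk' (fun v => ((g : Co0) : Equiv.Perm leechLattice) v) (g : Co0).2.1
  show F (-bP - x) = -bP - F x
  rw [map_sub, map_neg, show F bP = bP from g.2]

theorem shell_smul (g : coGrp) {x : leechLattice} (hx : x ∈ shell) : (g : Co0) • x ∈ shell := by
  have e1 := dot_smul (g : Co0) bP x
  rw [show (g : Co0) • bP = bP from g.2] at e1
  exact ⟨((g : Co0).2.2 x).trans hx.1, e1.trans hx.2⟩

/-- The pair of the image of a side. -/
noncomputable def imgOf (g : coGrp) (a : Fin 2300 × Bool) : Fin 2300 × Bool :=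
  vEquiv.symm ⟨(g : Co0) • vec a, shell_smul g (vec_mem a)⟩

theorem vec_imgOf (g : coGrp) (a : Fin 2300 × Bool) : vec (imgOf g a) = (g : Co0) • vec a :=
  congrArg Subtype.val (Equiv.apply_symm_apply vEquiv ⟨(g : Co0) • vec a, shell_smul g (vec_mem a)⟩)

theorem imgOf_fst (g : coGrp) (i : Fin 2300) (b : Bool) : (imgOf g (i, b)).1 = (imgOf g (i, false)).1 := by
  cases b
  · rfl
  have key : imgOf g (i, true) = ((imgOf g (i, false)).1, !(imgOf g (i, false)).2) := vec_inj (by
    rw [vec_imgOf]
    have h := vec_imgOf g (i, false)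
    generalize imgOf g (i, false) = t at h ⊢
    obtain ⟨j, c⟩ := t
    show (g : Co0) • (-bP - vec (i, false)) = _
    rw [smul_sub_bD, ← h]
    cases c
    · rfl
    · exact sub_sub_cancel (-bP) _)
  rw [key]

theorem imgOf_mul (g g' : coGrp) (a : Fin 2300 × Bool) : imgOf (g * g') a = imgOf g (imgOf g' a) :=
  vec_inj (by rw [vec_imgOf, vec_imgOf, vec_imgOf, Subgroup.coe_mul, mul_smul])

theorem imgOf_one (a : Fin 2300 × Bool) : imgOf 1 a = a := vec_inj (by rw [vec_imgOf, Subgroup.coe_one, one_smul])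

theorem pair_mul (g g' : coGrp) (i : Fin 2300) :
    (imgOf (g * g') (i, false)).1 = (imgOf g ((imgOf g' (i, false)).1, false)).1 := by
  rw [imgOf_mul, ← imgOf_fst g _ (imgOf g' (i, false)).2]

/-- The action on pairs. -/
noncomputable def phi : coGrp →* Equiv.Perm (Fin 2300) :=
  MonoidHom.mk' (fun g =>
    { toFun := fun i => (imgOf g (i, false)).1
      invFun := fun i => (imgOf g⁻¹ (i, false)).1
      left_inv := fun i => by
        show (imgOf g⁻¹ ((imgOf g (i, false)).1, false)).1 = i
        rw [← pair_mul, inv_mul_cancel, imgOf_one]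
      right_inv := fun i => by
        show (imgOf g ((imgOf g⁻¹ (i, false)).1, false)).1 = i
        rw [← pair_mul, mul_inv_cancel, imgOf_one] }) fun g g' => Equiv.ext fun i => pair_mul g g' i

theorem gen_mem {j : ℕ} (hj : j < 4) : data.im (8 + j) ∈ phi.range := by
  have h := List.all_eq_true.1 atoms_fix j (List.mem_range.2 hj)
  simp only [Bool.and_eq_true, beq_iff_eq] at h
  obtain ⟨hok, hD⟩ := h
  obtain ⟨h1, e1⟩ := el_smul hok short_base.2.1
  have hfix : el (atomsOf j) • bP = bP := by
    have eb : (bP : leechLattice) = ⟨dec kP, short_base.2.1.1⟩ := Subtype.ext dec_kP.symm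
    rw [eb]
    exact e1.trans (Subtype.ext (congrArg dec hD))
  let g : coGrp := ⟨el (atomsOf j), mem_stabilizer_iff.2 hfix⟩
  have hl' : 8 + j < data.xTabs.length := by
    show 8 + j < 12
    omega
  refine ⟨g, Equiv.ext fun i => ?_⟩
  have hv := (valid_data.act _ hl').1
  set t : Fin 2300 := Cfsg.Lib.PermCert.perm data.n (data.xTabs.getD (8 + j) (0, 0)) i with ht
  have htv : t.val = Cfsg.Lib.PermCert.ap (data.xTabs.getD (8 + j) (0, 0)).1 i.val :=
    Cfsg.Lib.PermCert.perm_apply hv (i : Fin data.n)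
  show (imgOf g (i, false)).1 = t
  obtain ⟨h2, e2⟩ := el_smul hok (key_short i)
  have hm := List.all_eq_true.1 (mapOK_all i.isLt) j (List.mem_range.2 hj)
  rw [Bool.or_eq_true, beq_iff_eq, beq_iff_eq, ← htv] at hm
  rcases hm with hm | hm
  · rw [show imgOf g (i, false) = (t, false) from
      vec_inj ((vec_imgOf g _).trans (e2.trans (Subtype.ext (congrArg dec hm))))]
  · rw [show imgOf g (i, false) = (t, true) from
      vec_inj ((vec_imgOf g _).trans (e2.trans (Subtype.ext ((congrArg dec hm).trans (vec_true t).symm))))]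

theorem im_mem {l : ℕ} (hl : l < 4) : data.im l ∈ phi.range := by
  have h := List.all_eq_true.1 perms_ok l (List.mem_range.2 hl)
  simp only [Bool.and_eq_true, List.all_eq_true] at h
  rw [← Data.wval_one, valid_data.sameW_sound h.1]
  refine phi.range.list_prod_mem fun q hq => ?_
  obtain ⟨a, ha, rfl⟩ := List.mem_map.1 hq
  have h8 := h.2 a ha
  have h1 := Nat.le_of_ble_eq_true h8.1
  have h2 := Nat.le_of_ble_eq_true h8.2
  obtain ⟨j, rfl⟩ := Nat.exists_eq_add_of_le h1
  exact gen_mem (by omega)

theorem phi_injective : Function.Injective phi := by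
  haveI : IsSimpleGroup coGrp := (isCo2_stabilizer (v := bP) bP_norm).1
  rcases (inferInstance : phi.ker.Normal).eq_bot_or_eq_top with h | h
  · exact (MonoidHom.ker_eq_bot_iff phi).mp h
  · exfalso
    obtain ⟨i, hi, hmv⟩ := List.any_eq_true.1 letter_moves
    rw [List.mem_range] at hi
    obtain ⟨g, hg⟩ := im_mem (show (0 : ℕ) < 4 by norm_num)
    have h1 : data.im 0 = 1 := by rw [← hg]; exact MonoidHom.mem_ker.1 (h ▸ Subgroup.mem_top g)
    have hi' : i < data.n := hi
    have h2 : (data.im 0 ⟨i, hi'⟩).val = i := by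
      rw [h1]
      rfl
    exact bne_iff_ne.1 hmv ((Cfsg.Lib.PermCert.perm_apply (valid_data.act 0
      (show 0 < data.xTabs.length by show 0 < 12; norm_num)).1 ⟨i, hi'⟩).symm.trans h2)

theorem grp_eq : data.grp = phi.range ∧ Nat.card data.grp = 42305421312000 := by
  have hle : data.grp ≤ phi.range := (Subgroup.closure_le _).2 (by
    rintro _ ⟨l, hl, rfl⟩
    exact im_mem hl)
  have hc : Nat.card phi.range = 42305421312000 := by
    rw [← Nat.card_congr (MonoidHom.ofInjective phi_injective).toEquiv]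
    exact card_stabilizer32 (v := bP) bP_norm
  have heq : data.grp = phi.range := Subgroup.eq_of_le_of_card_ge hle (hc ▸ valid_data.card_ge)
  exact ⟨heq, heq ▸ hc⟩

theorem exists_equiv : Nonempty (↥Cfsg.Spor.Co2 ≃* ↥data.grp) := by
  let e : ↥Cfsg.Spor.Co2 ≃* ↥(stabilizer Co0 Cfsg.Spor.leechU) :=
    { toFun := fun g => ⟨⟨g.1, (Subgroup.mem_inf.1 g.2).1⟩, (Subgroup.mem_inf.1 g.2).2⟩
      invFun := fun g => ⟨(g.1 : Equiv.Perm leechLattice), Subgroup.mem_inf.2 ⟨g.1.2, g.2⟩⟩
      left_inv := fun _ => rfl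
      right_inv := fun _ => rfl
      map_mul' := fun _ _ => rfl }
  exact ⟨((e.trans (MulEquiv.subgroupCongr (congrArg (stabilizer Co0) leechU_eq))).trans
    (MonoidHom.ofInjective phi_injective)).trans (MulEquiv.subgroupCongr grp_eq.1.symm)⟩

/-- The outer automorphism group of the Conway group Co2 is trivial. -/
theorem card_out : Nat.card (Cfsg.Out ↥Cfsg.Spor.Co2) = 1 := by
  obtain ⟨e⟩ := exists_equiv
  rw [Nat.card_congr (outCongr e).toEquiv]
  exact valid_data.out_one grp_eq.2 rfl

end Cfsg.Lib.CoTwoModel
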